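import Groth.Agent.FinQuotSp10.Cat
import Groth.Agent.S9261

/-!
# Spectra of invariants and their flat base changes are finite quotients
-/

set_option autoImplicit false
set_option backward.isDefEq.respectTransparency false
set_option backward.isDefEq.respectTransparency.types false

universe u

open CategoryTheory CategoryTheory.Limits AlgebraicGeometry AlgSp
open scoped TensorProduct

namespace Groth.Agent.FinQuotSp10

theorem appTop_spec {B C : Type u} [CommRing B] [CommRing C] (φ : B →+* C) (b : B) :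
    (Spec.map (CommRingCat.ofHom φ)).appTop ((Scheme.ΓSpecIso (CommRingCat.of B)).inv b) =
      (Scheme.ΓSpecIso (CommRingCat.of C)).inv (φ b) :=
  (congr($(Scheme.ΓSpecIso_inv_naturality (CommRingCat.ofHom φ)) b)).symm

theorem exists_appTop_spec {B : Type u} [CommRing B] (z : Γ(Spec (CommRingCat.of B), ⊤)) :
    ∃ b : B, (Scheme.ΓSpecIso (CommRingCat.of B)).inv b = z :=
  (Scheme.ΓSpecIso (CommRingCat.of _)).commRingCatIsoToRingEquiv.symm.surjective z

theorem injective_appTop_spec {B : Type u} [CommRing B] :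
    Function.Injective (Scheme.ΓSpecIso (CommRingCat.of B)).inv.hom :=
  (Scheme.ΓSpecIso (CommRingCat.of B)).commRingCatIsoToRingEquiv.symm.injective

theorem injective_appTop_spec_map {B C : Type u} [CommRing B] [CommRing C] {φ : B →+* C} (h : Function.Injective φ) :
    Function.Injective (Spec.map (CommRingCat.ofHom φ)).appTop := fun a a' e => by
  obtain ⟨b, rfl⟩ := exists_appTop_spec (B := B) a
  obtain ⟨b', rfl⟩ := exists_appTop_spec (B := B) a'
  rw [appTop_spec, appTop_spec] at e
  rw [h (injective_appTop_spec e)]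

theorem appTop_spec_of_eq {B C : Type u} [CommRing B] [CommRing C] {φ : B →+* C} {b : B} {x : C} (h : φ b = x) :
    (Spec.map (CommRingCat.ofHom φ)).appTop ((Scheme.ΓSpecIso (CommRingCat.of B)).inv b) =
      (Scheme.ΓSpecIso (CommRingCat.of C)).inv x := h ▸ appTop_spec φ b

theorem injective_appTop_of_isIso {X Y : Scheme.{u}} (e : X ⟶ Y) [IsIso e] : Function.Injective e.appTop :=
  fun a b h => by
    have := congrArg (inv e).appTop h
    rwa [← CommRingCat.comp_apply, ← CommRingCat.comp_apply, ← Scheme.Hom.comp_appTop, IsIso.inv_hom_id,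
      Scheme.Hom.id_appTop] at this

theorem surjective_appTop_of_isIso {X Y : Scheme.{u}} (e : X ⟶ Y) [IsIso e] : Function.Surjective e.appTop :=
  fun z => ⟨(inv e).appTop z, by
    rw [← CommRingCat.comp_apply, ← Scheme.Hom.comp_appTop, IsIso.hom_inv_id, Scheme.Hom.id_appTop]; rfl⟩

variable {S : Scheme.{u}} {B A G : Type u} [CommRing B] [CommRing A] [Algebra B A] [Group G] [Finite G]
  [MulSemiringAction G A] [SMulCommClass G B A]

/-- The structure map of the quotient. -/
noncomputable def specQuot (sA : Spec (CommRingCat.of A) ⟶ S) (sB : Spec (CommRingCat.of B) ⟶ S)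
    (hs : Spec.map (CommRingCat.ofHom (algebraMap B A)) ≫ sB = sA) : Over.mk sA ⟶ Over.mk sB :=
  Over.homMk (Spec.map (CommRingCat.ofHom (algebraMap B A))) hs

/-- The left action of `G` on `Spec A`. -/
noncomputable def specAct (sA : Spec (CommRingCat.of A) ⟶ S)
    (h : ∀ g : G, Spec.map (CommRingCat.ofHom (MulSemiringAction.toRingHom G A g)) ≫ sA = sA) (g : G) :
    Over.mk sA ⟶ Over.mk sA :=
  Over.homMk (Spec.map (CommRingCat.ofHom (MulSemiringAction.toRingHom G A g⁻¹))) (h g⁻¹)

omit [Group G] [Finite G] [MulSemiringAction G A] [SMulCommClass G B A] in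
/-- A flat affine base change of a spectrum. -/
theorem exists_tensor_iso {T : Scheme.{u}} [IsAffine T] (q : T ⟶ Spec (CommRingCat.of B)) [Flat q] :
    ∃ (C : Type u) (_ : CommRing C) (_ : Algebra B C) (_ : Module.Flat B C) (eT : T ≅ Spec (CommRingCat.of C))
      (j : pullback q (Spec.map (CommRingCat.ofHom (algebraMap B A))) ≅ Spec (CommRingCat.of (C ⊗[B] A))),
      j.hom ≫ Spec.map (CommRingCat.ofHom (algebraMap C (C ⊗[B] A))) ≫ eT.inv = pullback.fst _ _ ∧
      j.hom ≫ Spec.map (CommRingCat.ofHom (Algebra.TensorProduct.includeRight : A →ₐ[B] C ⊗[B] A).toRingHom) =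
        pullback.snd _ _ := by
  obtain ⟨ψ, hψ⟩ := Spec.map_surjective (T.isoSpec.inv ≫ q)
  let _ := ψ.hom.toAlgebra
  have hflat : Flat (Spec.map ψ) := by rw [hψ]; infer_instance
  have : Module.Flat B Γ(T, ⊤) :=
    (RingHom.flat_algebraMap_iff (R := B) (S := Γ(T, ⊤))).1 ((HasRingHomProperty.Spec_iff (P := @Flat)).1 hflat)
  have h := (IsPullback.of_hasPullback q (Spec.map (CommRingCat.ofHom (algebraMap B A)))).of_iso (Iso.refl _)
    T.isoSpec (Iso.refl _) (Iso.refl _) (fst' := pullback.fst q _ ≫ T.isoSpec.hom) (snd' := pullback.snd q _)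
    (f' := Spec.map (CommRingCat.ofHom (algebraMap B Γ(T, ⊤))))
    (g' := Spec.map (CommRingCat.ofHom (algebraMap B A))) (by simp) (by simp)
    (by
      show q ≫ 𝟙 _ = T.isoSpec.hom ≫ Spec.map ψ
      rw [hψ, Iso.hom_inv_id_assoc, Category.comp_id]) (by simp)
  refine ⟨Γ(T, ⊤), inferInstance, inferInstance, inferInstance, T.isoSpec,
    h.isoPullback ≪≫ pullbackSpecIso B Γ(T, ⊤) A, ?_, ?_⟩
  · simp only [Iso.trans_hom, Category.assoc]
    erw [pullbackSpecIso_hom_fst_assoc, h.isoPullback_hom_fst_assoc]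
    simp
  · simp only [Iso.trans_hom, Category.assoc]
    erw [pullbackSpecIso_hom_snd, h.isoPullback_hom_snd]

omit [Finite G] in
theorem act_w {sA : Spec (CommRingCat.of A) ⟶ S} {sB : Spec (CommRingCat.of B) ⟶ S}
    (hs : Spec.map (CommRingCat.ofHom (algebraMap B A)) ≫ sB = sA) (g : G) :
    Spec.map (CommRingCat.ofHom (MulSemiringAction.toRingHom G A g)) ≫ sA = sA := by
  rw [← hs, ← Category.assoc, ← Spec.map_comp, ← CommRingCat.ofHom_comp]
  congr 3
  ext b
  exact smul_algebraMap g b

/-- The spectrum of a ring is a finite quotient onto the spectrum of its invariants. -/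
theorem isFinQuot_spec [FaithfulSMul B A] [Algebra.IsInvariant B A G] [Module.Finite B A]
    (sA : Spec (CommRingCat.of A) ⟶ S) (sB : Spec (CommRingCat.of B) ⟶ S)
    (hs : Spec.map (CommRingCat.ofHom (algebraMap B A)) ≫ sB = sA) :
    IsFinQuot (G := G) (specQuot sA sB hs) (specAct sA (act_w hs)) where
  affX := inferInstanceAs (IsAffine (Spec _))
  affY := inferInstanceAs (IsAffine (Spec _))
  finite := by
    refine (IsFinite.SpecMap_iff _).2 ?_
    rw [CommRingCat.hom_ofHom, RingHom.finite_algebraMap]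
    infer_instance
  comp_f g := Over.OverMorphism.ext (by
    show Spec.map _ ≫ Spec.map _ = Spec.map _
    rw [← Spec.map_comp, ← CommRingCat.ofHom_comp]
    congr 2
    ext b
    exact smul_algebraMap g⁻¹ b)
  σ_one := Over.OverMorphism.ext (by
    show Spec.map _ = 𝟙 _
    have : MulSemiringAction.toRingHom G A (1 : G)⁻¹ = RingHom.id A :=
      RingHom.ext fun a => by rw [inv_one]; exact one_smul G a
    rw [this]
    exact Spec.map_id _)
  σ_mul g g' := Over.OverMorphism.ext (by
    show Spec.map _ = Spec.map _ ≫ Spec.map _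
    rw [← Spec.map_comp, ← CommRingCat.ofHom_comp]
    congr 2
    ext a
    show (g * g')⁻¹ • a = g'⁻¹ • g⁻¹ • a
    rw [mul_inv_rev, mul_smul])
  orbit Ω _ _ x x' h := by
    obtain ⟨φ, rfl⟩ := Spec.map_surjective x
    obtain ⟨φ', rfl⟩ := Spec.map_surjective x'
    have hB : φ.hom.comp (algebraMap B A) = φ'.hom.comp (algebraMap B A) := by
      have h' : Spec.map φ ≫ Spec.map (CommRingCat.ofHom (algebraMap B A)) =
          Spec.map φ' ≫ Spec.map (CommRingCat.ofHom (algebraMap B A)) := h
      rw [← Spec.map_comp, ← Spec.map_comp] at h'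
      exact congrArg CommRingCat.Hom.hom (Spec.map_injective h')
    obtain ⟨g, hg⟩ := exists_smul_eq (G := G) φ.hom φ'.hom fun a ha => by
      obtain ⟨b, rfl⟩ := Algebra.IsInvariant.isInvariant (A := B) (G := G) a ha
      exact RingHom.congr_fun hB b
    refine ⟨g⁻¹, ?_⟩
    show Spec.map φ ≫ Spec.map _ = Spec.map φ'
    rw [← Spec.map_comp]
    congr 1
    ext a
    show φ.hom ((g⁻¹)⁻¹ • a) = φ'.hom a
    rw [inv_inv, hg]
  inj T q _ _ := by
    obtain ⟨C, _, _, _, eT, j, hj, -⟩ := exists_tensor_iso (A := A) (B := B) q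
    obtain ⟨hinj, -⟩ := Groth.Agent.S9261.result B A C G
    show Function.Injective (pullback.fst q (Spec.map (CommRingCat.ofHom (algebraMap B A)))).appTop
    rw [← hj, Scheme.Hom.comp_appTop, Scheme.Hom.comp_appTop]
    exact fun a b hab => injective_appTop_of_isIso eT.inv
      (injective_appTop_spec_map hinj (injective_appTop_of_isIso j.hom hab))
  desc T q _ _ z hz := by
    obtain ⟨C, _, _, _, eT, j, hj, hj₂⟩ := exists_tensor_iso (A := A) (B := B) q
    obtain ⟨-, hdesc⟩ := Groth.Agent.S9261.result B A C G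
    show z ∈ Set.range (pullback.fst q (Spec.map (CommRingCat.ofHom (algebraMap B A)))).appTop
    obtain ⟨w, rfl⟩ := surjective_appTop_of_isIso j.hom z
    obtain ⟨x, rfl⟩ := exists_appTop_spec w
    obtain ⟨b, hb⟩ := hdesc x fun g => by
      let θ := Algebra.TensorProduct.map (AlgHom.id B C) (MulSemiringAction.toAlgHom B A g)
      have h1 : CommRingCat.ofHom (algebraMap C (C ⊗[B] A)) ≫ CommRingCat.ofHom θ.toRingHom =
          CommRingCat.ofHom (algebraMap C (C ⊗[B] A)) := by
        ext c
        show θ (c ⊗ₜ 1) = c ⊗ₜ 1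
        simp [θ]
      have h2 : CommRingCat.ofHom (Algebra.TensorProduct.includeRight : A →ₐ[B] C ⊗[B] A).toRingHom ≫
          CommRingCat.ofHom θ.toRingHom = CommRingCat.ofHom (MulSemiringAction.toRingHom G A (g⁻¹)⁻¹) ≫
            CommRingCat.ofHom (Algebra.TensorProduct.includeRight : A →ₐ[B] C ⊗[B] A).toRingHom := by
        ext a
        show θ (1 ⊗ₜ a) = 1 ⊗ₜ ((g⁻¹)⁻¹ • a)
        simp [θ]
      have k1 : (j.hom ≫ Spec.map (CommRingCat.ofHom θ.toRingHom) ≫ j.inv) ≫
          pullback.fst q (Spec.map (CommRingCat.ofHom (algebraMap B A))) = pullback.fst _ _ := by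
        rw [← hj]; simp only [Category.assoc, Iso.inv_hom_id_assoc]; rw [← Spec.map_comp_assoc, h1]
      have k2 : (j.hom ≫ Spec.map (CommRingCat.ofHom θ.toRingHom) ≫ j.inv) ≫
          pullback.snd q (Spec.map (CommRingCat.ofHom (algebraMap B A))) = pullback.snd _ _ ≫
            Spec.map (CommRingCat.ofHom (MulSemiringAction.toRingHom G A (g⁻¹)⁻¹)) := by
        rw [← hj₂]; simp only [Category.assoc, Iso.inv_hom_id_assoc]
        rw [← Spec.map_comp, h2, Spec.map_comp]
      have h3 : (j.hom ≫ Spec.map (CommRingCat.ofHom θ.toRingHom) ≫ j.inv).appTop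
          (j.hom.appTop ((Scheme.ΓSpecIso (CommRingCat.of (C ⊗[B] A))).inv x)) =
          j.hom.appTop ((Scheme.ΓSpecIso (CommRingCat.of (C ⊗[B] A))).inv x) := hz g⁻¹ _ k1 k2
      rw [← CommRingCat.comp_apply, ← Scheme.Hom.comp_appTop, Category.assoc, Category.assoc, Iso.inv_hom_id,
        Category.comp_id, Scheme.Hom.comp_appTop, CommRingCat.comp_apply, appTop_spec] at h3
      exact injective_appTop_spec (B := C ⊗[B] A) (injective_appTop_of_isIso j.hom h3)
    obtain ⟨c, hc⟩ := surjective_appTop_of_isIso eT.inv ((Scheme.ΓSpecIso (CommRingCat.of C)).inv b)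
    refine ⟨c, ?_⟩
    rw [← hj, Scheme.Hom.comp_appTop, Scheme.Hom.comp_appTop, CommRingCat.comp_apply, CommRingCat.comp_apply]
    have e := appTop_spec_of_eq hb
    have e' := (congrArg (Spec.map (CommRingCat.ofHom (algebraMap C (C ⊗[B] A)))).appTop hc).trans e
    exact congrArg j.hom.appTop e'

section BaseChange

omit [CommRing B] [CommRing A] [Algebra B A] [Finite G] [MulSemiringAction G A] [SMulCommClass G B A]

variable {X Y Y' : Over S} {f : X ⟶ Y} {σ : G → (X ⟶ X)} (hf : IsFinQuot f σ) (q : Y' ⟶ Y)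

/-- The base change of the source of a quotient. -/
noncomputable def bcX (f : X ⟶ Y) (q : Y' ⟶ Y) : Over S :=
  Over.mk (pullback.fst q.left f.left ≫ Y'.hom)

/-- The base change of a quotient map. -/
noncomputable def bcMap (f : X ⟶ Y) (q : Y' ⟶ Y) : bcX f q ⟶ Y' :=
  Over.homMk (pullback.fst q.left f.left) rfl

/-- The base change of an action. -/
noncomputable def bcAct (g : G) : bcX f q ⟶ bcX f q :=
  Over.homMk (act hf q.left g) (act_fst_assoc hf q.left g _)

/-- Descent of invariant functions through an iterated base change. -/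
theorem desc_comp {X Y : Over S} {f : X ⟶ Y} {σ : G → (X ⟶ X)} (hf : IsFinQuot f σ) {U T : Scheme.{u}} [IsAffine T]
    (q : U ⟶ Y.left) [Flat q] (r : T ⟶ U) [Flat r] (z : Γ(pullback r (pullback.fst q f.left), ⊤))
    (hz : ∀ (g : G) (σ' : pullback r (pullback.fst q f.left) ⟶ pullback r (pullback.fst q f.left)),
      σ' ≫ pullback.fst _ _ = pullback.fst r (pullback.fst q f.left) →
      σ' ≫ pullback.snd r (pullback.fst q f.left) = pullback.snd _ _ ≫ act hf q g → σ'.appTop z = z) :
    z ∈ Set.range (pullback.fst r (pullback.fst q f.left)).appTop := by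
  let e := pullbackRightPullbackFstIso q f.left r
  have he1 : e.hom ≫ pullback.fst (r ≫ q) f.left = pullback.fst r (pullback.fst q f.left) :=
    pullbackRightPullbackFstIso_hom_fst _ _ _
  have he2 : e.hom ≫ pullback.snd (r ≫ q) f.left = pullback.snd r (pullback.fst q f.left) ≫ pullback.snd _ _ :=
    pullbackRightPullbackFstIso_hom_snd _ _ _
  obtain ⟨w, rfl⟩ := surjective_appTop_of_isIso e.hom z
  obtain ⟨c, hc⟩ := hf.desc T (r ≫ q) w fun g σ' h1 h2 => by
    have k1 : (e.hom ≫ σ' ≫ e.inv) ≫ pullback.fst r (pullback.fst q f.left) = pullback.fst _ _ := by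
      simp only [← he1, Category.assoc, Iso.inv_hom_id_assoc]
      rw [h1]
    have k2 : (e.hom ≫ σ' ≫ e.inv) ≫ pullback.snd r (pullback.fst q f.left) = pullback.snd _ _ ≫ act hf q g := by
      apply pullback.hom_ext
      · rw [Category.assoc (pullback.snd r _), act_fst, Category.assoc, Category.assoc, Category.assoc,
          ← pullback.condition, ← he1, Category.assoc, Iso.inv_hom_id_assoc, reassoc_of% h1]
      · rw [Category.assoc (pullback.snd r _), act_snd, Category.assoc, Category.assoc, Category.assoc,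
          ← reassoc_of% he2, ← he2, Iso.inv_hom_id_assoc, h2]
    have h3 := hz g _ k1 k2
    rw [← CommRingCat.comp_apply, ← Scheme.Hom.comp_appTop, Category.assoc, Category.assoc, Iso.inv_hom_id,
      Category.comp_id, Scheme.Hom.comp_appTop, CommRingCat.comp_apply] at h3
    exact injective_appTop_of_isIso e.hom h3
  refine ⟨c, ?_⟩
  rw [← he1, Scheme.Hom.comp_appTop, CommRingCat.comp_apply]
  exact congrArg _ hc

/-- A flat affine base change of a finite quotient is a finite quotient. -/
theorem IsFinQuot.baseChange [IsAffine Y'.left] [Flat q.left] : IsFinQuot (bcMap f q) (bcAct hf q) := by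
  have := hf.affX
  have := hf.affY
  have := hf.finite
  refine ⟨inferInstanceAs (IsAffine (pullback q.left f.left)), ‹_›, inferInstanceAs (IsFinite (pullback.fst _ _)),
    fun g => Over.OverMorphism.ext (act_fst hf q.left g), Over.OverMorphism.ext (act_one hf q.left),
    fun g g' => Over.OverMorphism.ext (act_mul hf q.left g g'), ?_, ?_, ?_⟩
  · intro Ω _ _ x x' h
    obtain ⟨g, hg⟩ := hf.orbit Ω (x ≫ pullback.snd q.left f.left) (x' ≫ pullback.snd q.left f.left) (by
      rw [Category.assoc, Category.assoc, ← pullback.condition]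
      exact (Category.assoc _ _ _).symm.trans ((congrArg (· ≫ q.left) h).trans (Category.assoc _ _ _)))
    refine ⟨g, pullback.hom_ext ?_ ?_⟩
    · show (x ≫ act hf q.left g) ≫ pullback.fst _ _ = _
      rw [Category.assoc, act_fst]; exact h
    · show (x ≫ act hf q.left g) ≫ pullback.snd _ _ = _
      rw [Category.assoc, act_snd, ← Category.assoc, hg]
  · intro T r _ _
    show Function.Injective (pullback.fst r (pullback.fst q.left f.left)).appTop
    have h := hf.inj T (r ≫ q.left)
    rw [show pullback.fst r (pullback.fst q.left f.left) = (pullbackRightPullbackFstIso q.left f.left r).hom ≫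
      pullback.fst (r ≫ q.left) f.left from (pullbackRightPullbackFstIso_hom_fst _ _ _).symm,
      Scheme.Hom.comp_appTop]
    exact (injective_appTop_of_isIso _).comp h
  · intro T r _ _ z hz
    exact desc_comp hf q.left r z hz

end BaseChange

end Groth.Agent.FinQuotSp10
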