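import Groth.Agent.FinQuotSp10.Coarse
import Groth.Agent.FinQuotSp10.Affine
import Groth.Agent.FibBase.FpMaps

/-!
# Base changes of coarse moduli maps of quotient stacks
-/

set_option autoImplicit false
set_option backward.isDefEq.respectTransparency false
set_option backward.isDefEq.respectTransparency.types false

universe u

open CategoryTheory CategoryTheory.Functor CategoryTheory.Limits MonoidalCategory CartesianMonoidalCategory MonObj
  GrpObj AlgebraicGeometry AlgSp Opposite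

namespace Groth.Agent.FinQuotSp10

open Groth.Agent.FibBase Groth.Agent.AlgSpLib Groth.Agent.AlgStLib Groth.Agent.QuotLib Groth.Agent.StkPts10

variable {S : Scheme.{u}} {G : Over S} [GrpObj G] {X Y Y' : Over S} {aX : AlgGrp.Action G X}

local notation "K₀" => Scheme.fppfPrecoverage

variable {f : X ⟶ Y} {π : AlgSt.QuotSt K₀ G aX ⥤ᵇ AlgSt.ofSch Y}
  (hπ : Nonempty (BasedFunctor.comp (AlgSt.quotMap K₀ G aX) π ≅ AlgSt.ofSpMap ((yon S).map f))) (g : Y' ⟶ Y)

set_option quotPrecheck false in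
local notation "𝒫" => FibCat.fp (AlgSt.ofSpMap ((yon S).map g)) π

include hπ in
theorem secAt_triv {T : Over S} (x : T ⟶ X) :
    secAt π (triv K₀ G aX x) = (⟨x ≫ f⟩ : ULift (T ⟶ Y)) := by
  rw [← restrHom_app π x, restrHom_eq hπ]
  rfl

/-- A morphism of the 2-fibre product from its components. -/
theorem exists_fpHom {o o' : (𝒫).obj} (a : o.obj.fst ⟶ o'.obj.fst) (b : o.obj.snd ⟶ o'.obj.snd)
    (hab : (AlgSt.QuotSt K₀ G aX).p.map b = eqToHom (snd_proj o) ≫ a.hom ≫ eqToHom (snd_proj o').symm) :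
    ∃ m : o ⟶ o', m.hom.fst = a ∧ m.hom.snd = b := by
  refine ⟨ObjectProperty.homMk ⟨a, b, ?_⟩, rfl, rfl⟩
  refine Stk.EltObj.hom_ext ?_
  have ho : o.obj.iso.hom.hom = eqToHom ((snd_proj o).symm.trans (π.w_obj o.obj.snd).symm) := by
    have : (AlgSt.ofSch Y).p.IsHomLift (𝟙 o.obj.fst.base) o.obj.iso.hom := o.property
    have h := IsHomLift.fac' (AlgSt.ofSch Y).p (𝟙 o.obj.fst.base) o.obj.iso.hom
    exact h.trans (by simp)
  have ho' : o'.obj.iso.hom.hom = eqToHom ((snd_proj o').symm.trans (π.w_obj o'.obj.snd).symm) := by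
    have : (AlgSt.ofSch Y).p.IsHomLift (𝟙 o'.obj.fst.base) o'.obj.iso.hom := o'.property
    have h := IsHomLift.fac' (AlgSt.ofSch Y).p (𝟙 o'.obj.fst.base) o'.obj.iso.hom
    exact h.trans (by simp)
  have hb : (π.map b).hom = eqToHom (π.w_obj _) ≫ (AlgSt.QuotSt K₀ G aX).p.map b ≫ eqToHom (π.w_obj _).symm :=
    Functor.congr_hom π.w b
  change a.hom ≫ o'.obj.iso.hom.hom = o.obj.iso.hom.hom ≫ (π.map b).hom
  rw [ho, ho', hb, hab]
  simp

/-- The standard object of the 2-fibre product. -/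
noncomputable def std {T : Over S} (x : T ⟶ X) (v : T ⟶ Y') (h : v ≫ g = x ≫ f) : (𝒫).obj :=
  ⟨⟨⟨T, ⟨v⟩⟩, triv K₀ G aX x, eltIso (eqToIso (π.w_obj (triv K₀ G aX x)).symm) (by
    show ((yon S).obj Y).obj.map (eqToHom (π.w_obj (triv K₀ G aX x)).symm).op (π.obj (triv K₀ G aX x)).sec =
      (⟨v ≫ g⟩ : ULift (T ⟶ Y))
    rw [h, ← secAt_triv hπ x]
    rfl)⟩, isHomLift_id_of_map_eq (p := (AlgSt.ofSch Y).p) rfl (π.w_obj _) rfl⟩

include hπ in
theorem snd_sec (o : (𝒫).obj) {T : Over S} (k : T ⟶ o.obj.fst.base) :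
    k ≫ o.obj.fst.sec.down ≫ g =
      k ≫ eqToHom (snd_proj o).symm ≫ (secAt π o.obj.snd).down := by
  have h1 : secAt (BasedFunctor.comp (FibCat.fpFst (AlgSt.ofSpMap ((yon S).map g)) π) (AlgSt.ofSpMap ((yon S).map g))) o =
      secAt (BasedFunctor.comp (FibCat.fpSnd (AlgSt.ofSpMap ((yon S).map g)) π) π) o :=
    secAt_eq_of_iso (FibCat.fpIso (AlgSt.ofSpMap ((yon S).map g)) π) o
  have e1 : secAt (BasedFunctor.comp (FibCat.fpFst (AlgSt.ofSpMap ((yon S).map g)) π) (AlgSt.ofSpMap ((yon S).map g))) o =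
      (⟨o.obj.fst.sec.down ≫ g⟩ : ULift (o.obj.fst.base ⟶ Y)) := by
    refine (secAt_comp_ofPshMap _ _ o).trans ?_
    have e0 : secAt (FibCat.fpFst (AlgSt.ofSpMap ((yon S).map g)) π) o = o.obj.fst.sec := res_id _ _ rfl _
    rw [e0]
    rfl
  rw [e1, CatModLocal.secAt_precomp] at h1
  exact congrArg (k ≫ ·) (congrArg ULift.down h1)

include hπ in
/-- The standard object attached to a point of the torsor of an object maps to it. -/
theorem exists_hom_of_pt (o : (𝒫).obj) {T : Over S} (t : T ⟶ o.obj.snd.P) (v : T ⟶ Y')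
    (hv : v = t ≫ o.obj.snd.π ≫ eqToHom (snd_proj o) ≫ o.obj.fst.sec.down) :
    ∃ (h : v ≫ g = (t ≫ o.obj.snd.φ) ≫ f) (m : std hπ g (t ≫ o.obj.snd.φ) v h ⟶ o),
      (𝒫).p.map m = t ≫ o.obj.snd.π ≫ eqToHom (snd_proj o) := by
  let b := trivHom o.obj.snd t (t ≫ o.obj.snd.φ) rfl
  let k : T ⟶ o.obj.fst.base := t ≫ o.obj.snd.π ≫ eqToHom (snd_proj o)
  have h : v ≫ g = (t ≫ o.obj.snd.φ) ≫ f := by
    have h2 : (t ≫ o.obj.snd.π) ≫ (secAt π o.obj.snd).down = (t ≫ o.obj.snd.φ) ≫ f := by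
      have h3 := congrArg ULift.down (secAt_map π b)
      rw [secAt_triv hπ] at h3
      exact h3
    rw [hv]
    have := snd_sec hπ g o k
    simp only [k, Category.assoc, eqToHom_trans_assoc, eqToHom_refl, Category.id_comp] at this ⊢
    refine this.trans ?_
    exact ((Category.assoc _ _ _).symm.trans h2).trans (Category.assoc _ _ _)
  subst hv
  obtain ⟨m, hm1, -⟩ := exists_fpHom g (o := std hπ g (t ≫ o.obj.snd.φ) _ h) (o' := o)
    ⟨k, ULift.ext _ _ (Category.assoc t (o.obj.snd.π ≫ eqToHom (snd_proj o)) o.obj.fst.sec.down |>.trans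
      (congrArg (t ≫ ·) (Category.assoc _ _ _)))⟩ b (by
      show t ≫ o.obj.snd.π = eqToHom _ ≫ k ≫ eqToHom _
      simp [k])
  exact ⟨h, m, congrArg Stk.EltObj.Hom.hom hm1⟩

/-- A morphism of standard objects. -/
theorem exists_hom_std {T T' : Over S} (k : T ⟶ T') {x : T ⟶ X} {v : T ⟶ Y'} {h : v ≫ g = x ≫ f}
    {x' : T' ⟶ X} {v' : T' ⟶ Y'} {h' : v' ≫ g = x' ≫ f} (hv : k ≫ v' = v) (gm : T ⟶ G)
    (hgm : lift gm (k ≫ x') ≫ aX.act = x) :
    ∃ m : std hπ g x v h ⟶ std hπ g x' v' h', (𝒫).p.map m = k := by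
  obtain ⟨b, hb, -⟩ := (hom_triv_iff (K := K₀) (G := G) (aX := aX) k x x').2 gm hgm
  obtain ⟨m, hm1, -⟩ := exists_fpHom g (o := std hπ g x v h) (o' := std hπ g x' v' h')
    ⟨k, ULift.ext _ _ hv⟩ b (by
      show b.base = eqToHom _ ≫ k ≫ eqToHom _
      rw [hb]; simp)
  exact ⟨m, congrArg Stk.EltObj.Hom.hom hm1⟩

theorem secAt_std_congr {N : Sp S} (Φ : 𝒫 ⥤ᵇ AlgSt.ofSp N) {T : Over S} {x x' : T ⟶ X} {v v' : T ⟶ Y'}
    (h : v ≫ g = x ≫ f) (h' : v' ≫ g = x' ≫ f) (hx : x = x') (hv : v = v') :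
    secAt Φ (std hπ g x v h) = secAt Φ (std hπ g x' v' h') := by
  subst hx; subst hv; rfl

variable [Flat G.hom] [LocallyOfFinitePresentation G.hom]

include hπ in
/-- A base change of the quotient stack has the base change of the quotient as coarse moduli space. -/
theorem isCoarseModuli_fpFst
    (horb : ∀ (Ω : Type u) [Field Ω] [IsAlgClosed Ω] (t : Spec (CommRingCat.of Ω) ⟶ S),
      (∀ y : Over.mk t ⟶ Y, ∃ x : Over.mk t ⟶ X, x ≫ f = y) ∧
      (∀ x x' : Over.mk t ⟶ X, x ≫ f = x' ≫ f → ∃ gm : Over.mk t ⟶ G, lift gm x' ≫ aX.act = x))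
    (hcat : ∀ (N : AlgSp.Sp S), IsAlgSpace N → ∀ ψ : (yon S).obj (bcX f g) ⟶ N,
      (∀ (T : Over S) (z z' : T ⟶ bcX f g), z ≫ bcMap f g = z' ≫ bcMap f g →
        (∀ (c : bcX f g ⟶ X), c.left = pullback.snd g.left f.left →
          ∃ gm : T ⟶ G, lift gm (z' ≫ c) ≫ aX.act = z ≫ c) → (yon S).map z ≫ ψ = (yon S).map z' ≫ ψ) →
        ∃! χ : (yon S).obj Y' ⟶ N, (yon S).map (bcMap f g) ≫ χ = ψ) :
    AlgSt.IsCoarseModuli (FibCat.fpFst (AlgSt.ofSpMap ((yon S).map g)) π) := by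
  refine ⟨⟨IsAlgSpace.yon_obj Y', fun N hN Φ => ?_⟩, fun Ω _ _ t => ⟨fun m => ?_, fun A B hAB => ?_⟩⟩
  · let c : bcX f g ⟶ X := Over.homMk (pullback.snd g.left f.left) (by
      show _ ≫ X.hom = pullback.fst g.left f.left ≫ Y'.hom
      rw [← Over.w f, ← Over.w g, pullback.condition_assoc])
    have hc : bcMap f g ≫ g = c ≫ f := Over.OverMorphism.ext pullback.condition
    let ψ : (yon S).obj (bcX f g) ⟶ N :=
      (J S).uliftYonedaEquiv.symm (secAt Φ (std hπ g c (bcMap f g) hc))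
    have hψ : ∀ {T : Over S} (z : T ⟶ bcX f g) (h : (z ≫ bcMap f g) ≫ g = (z ≫ c) ≫ f),
        (J S).uliftYonedaEquiv ((yon S).map z ≫ ψ) = secAt Φ (std hπ g (z ≫ c) (z ≫ bcMap f g) h) := by
      intro T z h
      obtain ⟨m, hm⟩ := exists_hom_std hπ g z (x := z ≫ c) (v := z ≫ bcMap f g) (h := h) (h' := hc) rfl 1
        (Groth.Agent.GrpSchLib.act_one aX _)
      rw [show (J S).uliftYonedaEquiv ((yon S).map z ≫ ψ) = N.obj.map z.op ((J S).uliftYonedaEquiv ψ) from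
        ((J S).uliftYonedaEquiv_naturality' ψ z.op).symm, Equiv.apply_symm_apply]
      have h1 := secAt_map Φ m
      rw [hm] at h1
      exact h1
    obtain ⟨χ, hχ, hu⟩ := hcat N hN ψ fun T z z' hzz' hgm => by
      obtain ⟨gm, hgm⟩ := hgm c rfl
      have h : (z ≫ bcMap f g) ≫ g = (z ≫ c) ≫ f := by rw [Category.assoc, hc, Category.assoc]
      have h' : (z' ≫ bcMap f g) ≫ g = (z' ≫ c) ≫ f := by rw [Category.assoc, hc, Category.assoc]
      apply (J S).uliftYonedaEquiv.injective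
      rw [hψ z h, hψ z' h']
      obtain ⟨m, hm⟩ := exists_hom_std hπ g (𝟙 T) (x := z ≫ c) (v := z ≫ bcMap f g) (h := h) (x' := z' ≫ c)
        (v' := z' ≫ bcMap f g) (h' := h') (by rw [Category.id_comp, hzz']) gm (by rw [Category.id_comp]; exact hgm)
      have h1 := secAt_map Φ m
      rw [hm] at h1
      exact h1.symm.trans (res_id N.obj _ rfl _)
    have hsec : ∀ (χ : (yon S).obj Y' ⟶ N) (o : (𝒫).obj),
        secAt (BasedFunctor.comp (FibCat.fpFst (AlgSt.ofSpMap ((yon S).map g)) π) (AlgSt.ofSpMap χ)) o =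
          (J S).uliftYonedaEquiv ((yon S).map o.obj.fst.sec.down ≫ χ) := fun χ o => by
      refine (secAt_comp_ofPshMap _ _ o).trans ?_
      rw [GrothendieckTopology.uliftYonedaEquiv_comp, GrothendieckTopology.uliftYonedaEquiv_uliftYoneda_map]
      have e0 : secAt (FibCat.fpFst (AlgSt.ofSpMap ((yon S).map g)) π) o = o.obj.fst.sec := res_id _ _ rfl _
      rw [e0]
      rfl
    refine ⟨χ, ⟨pshIso _ _ fun o => ?_⟩, fun χ' ⟨i⟩ => hu χ' ?_⟩
    · rw [hsec]
      obtain ⟨h, m, hm⟩ := exists_hom_of_pt hπ g o (𝟙 o.obj.snd.P) _ rfl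
      let p : o.obj.snd.P ⟶ o.obj.fst.base := 𝟙 _ ≫ o.obj.snd.π ≫ eqToHom (snd_proj o)
      have hp : fppf p.left := by
        simp only [p, Category.id_comp, Over.comp_left]
        obtain ⟨⟨h1, h2⟩, h3⟩ := fppf_π o.obj.snd
        have := h1
        have := h2
        have := h3
        exact fppf_of _
      refine (Presieve.isSeparatedFor_singleton.1 (isSheafFor_singleton_fppf N p hp).isSeparatedFor) ?_
      have h1 := secAt_map Φ m
      rw [hm] at h1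
      refine Eq.trans ?_ h1.symm
      let l : o.obj.snd.P ⟶ bcX f g := Over.homMk (pullback.lift (p ≫ o.obj.fst.sec.down).left
        (𝟙 o.obj.snd.P ≫ o.obj.snd.φ).left (by
          rw [← Over.comp_left, ← Over.comp_left]
          congr 1)) (by
        show _ ≫ pullback.fst g.left f.left ≫ Y'.hom = _
        rw [pullback.lift_fst_assoc]
        exact Over.w (p ≫ o.obj.fst.sec.down))
      have hl1 : l ≫ bcMap f g = p ≫ o.obj.fst.sec.down := Over.OverMorphism.ext (pullback.lift_fst _ _ _)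
      have hl2 : l ≫ c = 𝟙 o.obj.snd.P ≫ o.obj.snd.φ := Over.OverMorphism.ext (pullback.lift_snd _ _ _)
      rw [show N.obj.map p.op ((J S).uliftYonedaEquiv ((yon S).map o.obj.fst.sec.down ≫ χ)) =
          (J S).uliftYonedaEquiv ((yon S).map p ≫ (yon S).map o.obj.fst.sec.down ≫ χ) from
        (J S).uliftYonedaEquiv_naturality' _ p.op, yon_cancel hl1.symm, Functor.map_comp, Category.assoc, hχ,
        hψ l (by rw [hl1, hl2, ← h]; simp [p])]
      exact secAt_std_congr hπ g Φ _ _ hl2 (hl1.trans (by simp [p]))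
    · apply (J S).uliftYonedaEquiv.injective
      have h1 := secAt_eq_of_iso i (std hπ g c (bcMap f g) hc)
      rw [hsec] at h1
      simp only [ψ, Equiv.apply_symm_apply]
      exact h1
  · obtain ⟨x, hx⟩ := (horb Ω t).1 (m.down ≫ g)
    refine ⟨⟨std hπ g x m.down hx.symm, rfl⟩, ?_⟩
    exact (res_id _ _ (by simp) _)
  · have hA : (AlgSt.QuotSt K₀ G aX).p.obj A.1.obj.snd = Over.mk t := (snd_proj A.1).trans A.2
    have hB : (AlgSt.QuotSt K₀ G aX).p.obj B.1.obj.snd = Over.mk t := (snd_proj B.1).trans B.2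
    obtain ⟨tA, htA⟩ := exists_sec_fppf (⟨A.1.obj.snd, hA⟩ : (AlgSt.QuotObj.forget K₀ G aX).Fiber (Over.mk t))
    obtain ⟨tB, htB⟩ := exists_sec_fppf (⟨B.1.obj.snd, hB⟩ : (AlgSt.QuotObj.forget K₀ G aX).Fiber (Over.mk t))
    obtain ⟨hgA, -⟩ := exists_hom_of_pt hπ g A.1 tA _ rfl
    obtain ⟨hgB, -⟩ := exists_hom_of_pt hπ g B.1 tB _ rfl
    have hAB' : eqToHom A.2.symm ≫ A.1.obj.fst.sec.down = eqToHom B.2.symm ≫ B.1.obj.fst.sec.down :=
      congrArg ULift.down hAB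
    rw [← Category.assoc tA, htA, eqToHom_trans_assoc] at hgA
    rw [← Category.assoc tB, htB, eqToHom_trans_assoc] at hgB
    obtain ⟨e⟩ := (iso_iff_orbit (⟨A.1.obj.snd, hA⟩ : (AlgSt.QuotObj.forget K₀ G aX).Fiber (Over.mk t))
      ⟨B.1.obj.snd, hB⟩ tA tB htA htB).2 ((horb Ω t).2 _ _ (by rw [← hgA, ← hgB, hAB']))
    let b : A.1.obj.snd ≅ B.1.obj.snd := Functor.Fiber.fiberInclusion.mapIso e
    let a : A.1.obj.fst ≅ B.1.obj.fst := eltIso (eqToIso (A.2.trans B.2.symm)) (ULift.ext _ _ (by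
      show eqToHom (A.2.trans B.2.symm) ≫ B.1.obj.fst.sec.down = A.1.obj.fst.sec.down
      rw [← cancel_epi (eqToHom A.2.symm), eqToHom_trans_assoc]
      exact hAB'.symm))
    have hb : (AlgSt.QuotSt K₀ G aX).p.map b.hom = eqToHom (hA.trans hB.symm) := by
      have : (AlgSt.QuotObj.forget K₀ G aX).IsHomLift (𝟙 (Over.mk t)) e.hom.1 := e.hom.2
      exact (IsHomLift.fac' (AlgSt.QuotObj.forget K₀ G aX) (𝟙 (Over.mk t)) e.hom.1).trans (by simp)
    have hab : (AlgSt.QuotSt K₀ G aX).p.map b.hom =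
        eqToHom (snd_proj A.1) ≫ a.hom.hom ≫ eqToHom (snd_proj B.1).symm := by
      rw [hb]
      exact (by simp : eqToHom (hA.trans hB.symm) =
        eqToHom (snd_proj A.1) ≫ eqToHom (A.2.trans B.2.symm) ≫ eqToHom (snd_proj B.1).symm)
    obtain ⟨m, hm1, hm2⟩ := exists_fpHom g a.hom b.hom hab
    let w := m.hom.w
    rw [hm1, hm2] at w
    let E := fpIsoMk a b w
    have hl : (AlgSt.ofSp ((yon S).obj Y')).p.IsHomLift (𝟙 (Over.mk t)) a.hom :=
      isHomLift_id_of_map_eq (p := (AlgSt.ofSp ((yon S).obj Y')).p) A.2 B.2 rfl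
    have hl' : (AlgSt.ofSp ((yon S).obj Y')).p.IsHomLift (𝟙 (Over.mk t)) a.inv :=
      isHomLift_id_of_map_eq (p := (AlgSt.ofSp ((yon S).obj Y')).p) B.2 A.2 rfl
    have : (𝒫).p.IsHomLift (𝟙 (Over.mk t)) E.hom := fp_isHomLift (𝟙 (Over.mk t)) _ (h := hl)
    have : (𝒫).p.IsHomLift (𝟙 (Over.mk t)) E.inv := fp_isHomLift (𝟙 (Over.mk t)) _ (h := hl')
    exact ⟨⟨⟨E.hom, inferInstance⟩, ⟨E.inv, inferInstance⟩, Functor.Fiber.hom_ext E.hom_inv_id,
      Functor.Fiber.hom_ext E.inv_hom_id⟩⟩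

end Groth.Agent.FinQuotSp10
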