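import Groth.Agent.QuotLib.CatModuli
import Groth.Agent.StkPts10.Orbit
import Mathlib.AlgebraicGeometry.AlgClosed.Basic

/-!
# Quotient stacks with geometric orbits and a categorical quotient have a coarse moduli space
-/

set_option autoImplicit false
set_option backward.isDefEq.respectTransparency false
set_option backward.isDefEq.respectTransparency.types false

universe u

open CategoryTheory CategoryTheory.Functor CategoryTheory.Limits MonoidalCategory CartesianMonoidalCategory MonObj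
  GrpObj AlgebraicGeometry AlgSp Opposite

namespace Groth.Agent.FinQuotSp10

open Groth.Agent.FibBase Groth.Agent.AlgSpLib Groth.Agent.AlgStLib Groth.Agent.QuotLib Groth.Agent.StkPts10

variable {S : Scheme.{u}} {G : Over S} [GrpObj G] {X Y : Over S} {aX : AlgGrp.Action G X}

local notation "K₀" => Scheme.fppfPrecoverage

/-- Fppf torsors over an algebraically closed field have sections. -/
theorem exists_sec_fppf {Ω : Type u} [Field Ω] [IsAlgClosed Ω] {str : Spec (CommRingCat.of Ω) ⟶ S}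
    (A : (AlgSt.QuotObj.forget K₀ G aX).Fiber (Over.mk str)) :
    ∃ t : Over.mk str ⟶ A.1.P, t ≫ A.1.π = eqToHom A.2.symm := by
  obtain ⟨⟨base, P, act, π, cart, loc, φ, eqv⟩, hA⟩ := A
  obtain rfl : base = Over.mk str := hA
  obtain ⟨R, hR, hsec⟩ := loc
  obtain ⟨_, _, hf, w, -⟩ := hR.1 (IsLocalRing.closedPoint Ω)
  obtain ⟨hf⟩ := hf
  rename_i W f
  obtain ⟨s, hs⟩ := hsec f hf
  obtain ⟨-, hflfp⟩ : Flat f ∧ LocallyOfFinitePresentation f := hR.2 hf
  let f0 : W ⟶ Spec (CommRingCat.of Ω) := f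
  have : LocallyOfFinitePresentation f0 := hflfp
  have : JacobsonSpace ↥W := LocallyOfFiniteType.jacobsonSpace f0
  obtain ⟨z, -, hz⟩ := nonempty_inter_closedPoints (Z := (Set.univ : Set ↥W)) ⟨w, trivial⟩
    isClosed_univ.isLocallyClosed
  let σ := pointOfClosedPoint f0 z hz
  have hσ : σ ≫ f = 𝟙 _ := pointOfClosedPoint_comp f0 z hz
  have hs' : s ≫ π.left = f := hs
  refine ⟨Over.homMk (σ ≫ s) ?_, Over.OverMorphism.ext ?_⟩
  · change (σ ≫ s) ≫ P.hom = str
    rw [← Over.w π]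
    change (σ ≫ s) ≫ π.left ≫ str = str
    rw [Category.assoc, reassoc_of% hs', reassoc_of% hσ]
  · change (σ ≫ s) ≫ π.left = 𝟙 _
    rw [Category.assoc, hs', hσ]

variable {f : X ⟶ Y} {π : AlgSt.QuotSt K₀ G aX ⥤ᵇ AlgSt.ofSch Y}

theorem restrHom_eq (hπ : Nonempty (BasedFunctor.comp (AlgSt.quotMap K₀ G aX) π ≅ AlgSt.ofSpMap ((yon S).map f))) :
    restrHom π = (yon S).map f := by
  obtain ⟨e⟩ := hπ
  exact (spHom_congr e).trans (spHom_ofSpMap _)

/-- The section attached to an object with a section of its torsor. -/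
theorem fibSec_eq (hπ : Nonempty (BasedFunctor.comp (AlgSt.quotMap K₀ G aX) π ≅ AlgSt.ofSpMap ((yon S).map f)))
    {T : Over S} (A : (AlgSt.QuotSt K₀ G aX).p.Fiber T) (t : T ⟶ A.1.P) (ht : t ≫ A.1.π = eqToHom A.2.symm) :
    AlgSt.fibSec π A = ⟨(t ≫ A.1.φ) ≫ f⟩ := by
  let h := trivHom A.1 t (t ≫ A.1.φ) rfl
  have hb : (AlgSt.QuotSt K₀ G aX).p.map h = eqToHom A.2.symm := ht
  have h1 := secAt_map π h
  rw [hb] at h1
  have h2 : secAt π (triv K₀ G aX (t ≫ A.1.φ)) = (⟨(t ≫ A.1.φ) ≫ f⟩ : ULift (T ⟶ Y)) := by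
    rw [← restrHom_app π (t ≫ A.1.φ), restrHom_eq hπ]
    rfl
  refine Eq.trans ?_ (h1.trans h2)
  refine Eq.trans ?_ (res_res _ _ _ _).symm
  refine res_congr _ ?_ _
  simp

variable [Flat G.hom] [LocallyOfFinitePresentation G.hom]

/-- An invariant morphism with orbits as geometric fibres which is a categorical quotient among algebraic spaces
gives a coarse moduli space of the quotient stack. -/
theorem isCoarseModuli_quotSt
    (horb : ∀ (Ω : Type u) [Field Ω] [IsAlgClosed Ω] (t : Spec (CommRingCat.of Ω) ⟶ S),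
      (∀ y : Over.mk t ⟶ Y, ∃ x : Over.mk t ⟶ X, x ≫ f = y) ∧
      (∀ x x' : Over.mk t ⟶ X, x ≫ f = x' ≫ f → ∃ g : Over.mk t ⟶ G, lift g x' ≫ aX.act = x))
    (hcat : ∀ (N : AlgSp.Sp S), IsAlgSpace N → ∀ ψ : (yon S).obj X ⟶ N,
      (yon S).map aX.act ≫ ψ = (yon S).map (snd G X) ≫ ψ →
        ∃! χ : (yon S).obj Y ⟶ N, (yon S).map f ≫ χ = ψ)
    (hπ : Nonempty (BasedFunctor.comp (AlgSt.quotMap K₀ G aX) π ≅ AlgSt.ofSpMap ((yon S).map f))) :
    AlgSt.IsCoarseModuli π := by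
  refine ⟨⟨IsAlgSpace.yon_obj Y, fun N hN φ => ?_⟩, fun Ω _ _ t => ⟨fun m => ?_, fun A B hAB => ?_⟩⟩
  · have key : ∀ g : (yon S).obj Y ⟶ N, Nonempty (BasedFunctor.comp π (AlgSt.ofSpMap g) ≅ φ) ↔
        (yon S).map f ≫ g = restrHom φ := fun g => by
      rw [nonempty_iso_iff, restrHom_comp, restrHom_eq hπ]
    obtain ⟨χ, hχ, hu⟩ := hcat N hN (restrHom φ) (restrHom_invariant φ)
    exact ⟨χ, (key χ).2 hχ, fun g hg => hu g ((key g).1 hg)⟩
  · obtain ⟨x, hx⟩ := (horb Ω t).1 m.down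
    obtain ⟨A, tA, htA, hA⟩ := exists_object_of_point (K := K₀) (G := G) (aX := aX) x
    exact ⟨A, (fibSec_eq hπ A tA htA).trans (ULift.ext _ _ (by rw [hA, hx]))⟩
  · obtain ⟨tA, htA⟩ := exists_sec_fppf A
    obtain ⟨tB, htB⟩ := exists_sec_fppf B
    rw [fibSec_eq hπ A tA htA, fibSec_eq hπ B tB htB] at hAB
    exact (iso_iff_orbit A B tA tB htA htB).2 ((horb Ω t).2 _ _ (congrArg ULift.down hAB).symm)

end Groth.Agent.FinQuotSp10
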