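import Groth.Agent.FinQuotSp10.Lift

/-!
# Finite group quotients of affine schemes are categorical quotients among algebraic spaces
-/

set_option autoImplicit false
set_option backward.isDefEq.respectTransparency false
set_option backward.isDefEq.respectTransparency.types false

universe u

open CategoryTheory CategoryTheory.Limits AlgebraicGeometry Opposite AlgSp

namespace Groth.Agent.FinQuotSp10

variable {S : Scheme.{u}}

/-- A jointly surjective family of flat morphisms of finite presentation covers. -/
theorem mem_J_of_flat {ι : Type u} {U : Over S} (V : ι → Over S) (v : ∀ i, V i ⟶ U)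
    (hv : ∀ i, Flat (v i).left ∧ LocallyOfFinitePresentation (v i).left)
    (hs : ∀ x : U.left, ∃ i, x ∈ Set.range (v i).left) :
    Sieve.generate (Presieve.ofArrows V v) ∈ J S U := by
  rw [GrothendieckTopology.mem_over_iff]
  have hm : Presieve.ofArrows (fun i => (V i).left) (fun i => (v i).left) ∈
      Scheme.precoverage (@Flat ⊓ @LocallyOfFinitePresentation) U.left :=
    (Scheme.ofArrows_mem_precoverage_iff _).2 ⟨hs, hv⟩
  refine GrothendieckTopology.superset_covering _ ?_ (Precoverage.generate_mem_toGrothendieck hm)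
  rintro Z _ ⟨Y, a, _, ⟨i⟩, rfl⟩
  rw [Sieve.overEquiv_iff]
  have h0 : (Sieve.generate (Presieve.ofArrows V v)).arrows (v i) := Sieve.le_generate _ _ _ ⟨i⟩
  convert (Sieve.generate (Presieve.ofArrows V v)).downward_closed h0
    (Over.homMk (U := Over.mk ((a ≫ (v i).left) ≫ U.hom)) (V := V i) a (by simp)) using 1
  ext; simp

variable {X Y : Over S} {G : Type u} [Group G]

theorem IsFinQuot.injective {f : X ⟶ Y} {σ : G → (X ⟶ X)} (hf : IsFinQuot f σ) :
    Function.Injective f.left.appTop := by
  have := hf.affY
  have e : (pullback.fst (𝟙 Y.left) f.left).appTop =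
      f.left.appTop ≫ (pullback.snd (𝟙 Y.left) f.left).appTop := by
    rw [← Scheme.Hom.comp_appTop, ← pullback.condition, Category.comp_id]
  have h0 := hf.inj Y.left (𝟙 _)
  rw [e] at h0
  exact Function.Injective.of_comp h0

/-- An invariant map to an algebraic space factors uniquely through a finite group quotient. -/
theorem existsUnique_factor [Finite G] {f : X ⟶ Y} {σ : G → (X ⟶ X)} (hf : IsFinQuot f σ) {N : Sp S}
    (hN : IsAlgSpace N) (h : (yon S).obj X ⟶ N) (hh : ∀ g, (yon S).map (σ g) ≫ h = h) :
    ∃! k : (yon S).obj Y ⟶ N, (yon S).map f ≫ k = h := by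
  have := hf.affX
  have := hf.affY
  have := hf.finite
  choose T hT q hq hy k hk using exists_lift hf hN h hh
  let n : ∀ y, N.obj.obj (op (T y)) := fun y => (J S).uliftYonedaEquiv (k y)
  have hcompat : ∀ (y y' : Y.left) (Z : Over S) (a : Z ⟶ T y) (a' : Z ⟶ T y'), a ≫ q y = a' ≫ q y' →
      (yon S).map a ≫ k y = (yon S).map a' ≫ k y' := by
    intro y y' Z a a' haa'
    have := hT y
    have := hT y'
    have := hq y
    have := hq y'
    let P := pullback (q y).left (q y').left
    have : IsAffine P := inferInstance
    let Po : Over S := Over.mk (pullback.fst (q y).left (q y').left ≫ (T y).hom)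
    let p1 : Po ⟶ T y := Over.homMk (pullback.fst _ _) rfl
    let p2 : Po ⟶ T y' := Over.homMk (pullback.snd _ _) (by
      show pullback.snd (q y).left (q y').left ≫ (T y').hom = pullback.fst _ _ ≫ (T y).hom
      rw [← Over.w (q y), ← Over.w (q y'), pullback.condition_assoc])
    have hp : p1 ≫ q y = p2 ≫ q y' := Over.OverMorphism.ext pullback.condition
    let qq : P ⟶ Y.left := pullback.fst _ _ ≫ (q y).left
    have : Etale qq := inferInstance
    let XP : Over S := Over.mk (pullback.fst qq f.left ≫ Po.hom)
    let r : XP ⟶ Po := Over.homMk (pullback.fst qq f.left) rfl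
    let c : XP ⟶ X := Over.homMk (pullback.snd qq f.left) (by
      show _ ≫ X.hom = pullback.fst qq f.left ≫ pullback.fst (q y).left (q y').left ≫ (T y).hom
      rw [← Over.w (q y), ← Category.assoc (pullback.fst (q y).left _), pullback.condition_assoc, Over.w f])
    have : IsAffine Po.left := ‹IsAffine P›
    have : IsAffine XP.left := inferInstanceAs (IsAffine (pullback qq f.left))
    have : IsFinite r.left := inferInstanceAs (IsFinite (pullback.fst qq f.left))
    have e : (r ≫ p1) ≫ q y = c ≫ f := Over.OverMorphism.ext (by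
      show (pullback.fst qq f.left ≫ pullback.fst _ _) ≫ (q y).left = pullback.snd qq f.left ≫ f.left
      rw [Category.assoc, ← pullback.condition])
    have e' : (r ≫ p2) ≫ q y' = c ≫ f := by rw [Category.assoc, ← hp, ← Category.assoc, e]
    have h12 : (yon S).map p1 ≫ k y = (yon S).map p2 ≫ k y' := by
      refine eq_of_comp_eq hN r (hf.inj P qq) _ _ ?_
      rw [yon_cancel rfl, hk y XP _ _ e, yon_cancel rfl, hk y' XP _ _ e']
    let l : Z ⟶ Po := Over.homMk (pullback.lift a.left a'.left (congrArg CommaMorphism.left haa')) (by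
      show _ ≫ pullback.fst _ _ ≫ (T y).hom = Z.hom
      rw [pullback.lift_fst_assoc, Over.w a])
    have hl1 : l ≫ p1 = a := Over.OverMorphism.ext (pullback.lift_fst _ _ _)
    have hl2 : l ≫ p2 = a' := Over.OverMorphism.ext (pullback.lift_snd _ _ _)
    rw [← hl1, ← hl2, Functor.map_comp, Functor.map_comp, Category.assoc, Category.assoc, h12]
  have hsheaf : Presieve.IsSheafFor N.obj (Presieve.ofArrows T q) := by
    rw [Presieve.isSheafFor_iff_generate]
    exact ((isSheaf_iff_isSheaf_of_type _ _).1 N.property) _ (mem_J_of_flat T q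
      (fun y => have := hq y; ⟨inferInstance, inferInstance⟩) fun y => ⟨y, hy y⟩)
  obtain ⟨m, hm, -⟩ := (Presieve.isSheafFor_arrows_iff _ _).1 hsheaf n fun y y' Z a a' e => by
    show N.obj.map a.op (n y) = N.obj.map a'.op (n y')
    have := hcompat y y' Z a a' e
    rw [show N.obj.map a.op (n y) = (J S).uliftYonedaEquiv ((yon S).map a ≫ k y) from
        (J S).map_uliftYonedaEquiv' (k y) a.op,
      show N.obj.map a'.op (n y') = (J S).uliftYonedaEquiv ((yon S).map a' ≫ k y') from
        (J S).map_uliftYonedaEquiv' (k y') a'.op, this]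
  let K : (yon S).obj Y ⟶ N := (J S).uliftYonedaEquiv.symm m
  have hK : ∀ y, (yon S).map (q y) ≫ K = k y := fun y => by
    apply (J S).uliftYonedaEquiv.injective
    rw [show (J S).uliftYonedaEquiv ((yon S).map (q y) ≫ K) = N.obj.map (q y).op ((J S).uliftYonedaEquiv K) from
      ((J S).uliftYonedaEquiv_naturality' K (q y).op).symm, Equiv.apply_symm_apply]
    exact hm y
  have hex : (yon S).map f ≫ K = h := by
    let V : Y.left → Over S := fun y => Over.mk (pullback.fst f.left (q y).left ≫ X.hom)
    let v : ∀ y, V y ⟶ X := fun y => Over.homMk (pullback.fst _ _) rfl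
    apply (J S).uliftYonedaEquiv.injective
    refine AlgStLib.CatModLocal.ext_of_covering (mem_J_of_flat V v (fun y => have := hq y
      ⟨inferInstanceAs (Flat (pullback.fst f.left (q y).left)),
        inferInstanceAs (LocallyOfFinitePresentation (pullback.fst f.left (q y).left))⟩) fun x => ?_) ?_
    · obtain ⟨z, hz⟩ := hy (f.left x)
      obtain ⟨w, hw, -⟩ := Scheme.Pullback.exists_preimage_pullback (f := f.left) (g := (q (f.left x)).left) x z hz.symm
      exact ⟨f.left x, w, hw⟩
    rintro Z _ ⟨W, a, _, ⟨y⟩, rfl⟩
    rw [GrothendieckTopology.uliftYonedaEquiv_naturality', GrothendieckTopology.uliftYonedaEquiv_naturality']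
    refine congrArg _ ?_
    let b : V y ⟶ T y := Over.homMk (pullback.snd f.left (q y).left) (by
      show _ ≫ (T y).hom = pullback.fst f.left (q y).left ≫ X.hom
      rw [← Over.w (q y), ← pullback.condition_assoc, Over.w f])
    have e : b ≫ q y = v y ≫ f := Over.OverMorphism.ext pullback.condition.symm
    show (yon S).map (a ≫ v y) ≫ (yon S).map f ≫ K = (yon S).map (a ≫ v y) ≫ h
    rw [yon_cancel (Category.assoc a (v y) f), ← e, ← Category.assoc a b (q y), Functor.map_comp, Category.assoc,
      hK, hk y Z (a ≫ b) (a ≫ v y) (by rw [Category.assoc, Category.assoc, e])]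
  exact ⟨K, hex, fun K' hK' => eq_of_comp_eq hN f hf.injective _ _ (hK'.trans hex.symm)⟩

end Groth.Agent.FinQuotSp10
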