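import Groth.Agent.AlgSpPts.Descent
import Mathlib.AlgebraicGeometry.Morphisms.Finite
import Mathlib.AlgebraicGeometry.Morphisms.ClosedImmersion
import Mathlib.AlgebraicGeometry.Morphisms.Proper
import Mathlib.AlgebraicGeometry.ZariskisMainTheorem

/-!
# Maps into algebraic spaces are detected by schematically dominant finite morphisms
-/

set_option autoImplicit false
set_option backward.isDefEq.respectTransparency false
set_option backward.isDefEq.respectTransparency.types false

universe u

open CategoryTheory CategoryTheory.Limits AlgebraicGeometry AlgSp Groth.Agent.AlgSpLib Groth.Agent.AlgSpPts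

namespace Groth.Agent.FinQuotSp10

variable {S : Scheme.{u}}

/-- A finite morphism of affine schemes injective on functions is surjective. -/
theorem surjective_of_injective {T T' : Scheme.{u}} [IsAffine T] [IsAffine T'] (f : T' ⟶ T) [IsFinite f]
    (hinj : Function.Injective f.appTop) : Surjective f := by
  have := isDominant_of_of_appTop_injective (f := f) hinj
  exact surjective_of_isDominant_of_isClosed_range f f.isClosedMap.isClosed_range

/-- Two maps into an algebraic space agreeing on a finite schematically dominant affine cover are equal. -/
theorem eq_of_comp_eq {N : Sp S} (hN : IsAlgSpace N) {T T' : Over S} [IsAffine T.left] [IsAffine T'.left]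
    (f : T' ⟶ T) [IsFinite f.left] (hinj : Function.Injective f.left.appTop)
    (a b : (yon S).obj T ⟶ N) (h : (yon S).map f ≫ a = (yon S).map f ≫ b) : a = b := by
  obtain ⟨h1, -, h3, h4⟩ := diag_package hN
  let e := h1.rep.snd (prod.lift a b)
  let c := h1.rep.fst (prod.lift a b)
  have sq := h1.rep.isPullback (prod.lift a b)
  have : LocallyOfFiniteType e.left := h1.property_snd _
  have : IsSeparated e.left := h3.property_snd _
  have : Mono e.left := h4.property_snd _
  let m := sq.lift ((yon S).map f ≫ a) ((yon S).map f) (by
    apply Limits.prod.hom_ext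
    · simp
    · simp [h])
  obtain ⟨l, hl⟩ := (yon S).map_surjective m
  have hle : l ≫ e = f := (yon S).map_injective (by rw [Functor.map_comp, hl]; exact sq.lift_snd _ _ _)
  have hle' : l.left ≫ e.left = f.left := congrArg CommaMorphism.left hle
  have := surjective_of_injective f.left hinj
  have : Surjective l.left := ⟨fun w => by
    obtain ⟨v, hv⟩ := f.left.surjective (e.left w)
    refine ⟨v, e.left.injective ?_⟩
    rw [← Scheme.Hom.comp_apply, hle', hv]⟩
  have : UniversallyClosed (l.left ≫ e.left) := by rw [hle']; infer_instance
  have : UniversallyClosed e.left := .of_comp_surjective l.left e.left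
  have : IsProper e.left := { }
  have : IsClosedImmersion e.left := (IsClosedImmersion.iff_isProper_and_mono _).2 ⟨‹_›, ‹_›⟩
  have : IsIso e.left := IsClosedImmersion.isIso_of_injective_of_isAffine (f := e.left) (fun x y hxy => hinj (by
    rw [← hle', Scheme.Hom.comp_appTop]
    exact congrArg l.left.appTop hxy))
  have : IsIso e := by
    have : IsIso ((Over.forget S).map e) := ‹IsIso e.left›
    exact isIso_of_reflects_iso e (Over.forget S)
  have hw := sq.w
  have ha : c = (yon S).map e ≫ a := by
    have := congrArg (fun k => k ≫ Limits.prod.fst) hw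
    simpa [Category.assoc] using this
  have hb : c = (yon S).map e ≫ b := by
    have := congrArg (fun k => k ≫ Limits.prod.snd) hw
    simpa [Category.assoc] using this
  rw [← cancel_epi ((yon S).map e)]
  exact ha.symm.trans hb

/-- Two morphisms to a scheme agreeing on a finite schematically dominant affine cover are equal. -/
theorem eq_of_comp_eq_sch {T T' Z : Scheme.{u}} [IsAffine T] [IsAffine T'] (f : T' ⟶ T) [IsFinite f]
    (hinj : Function.Injective f.appTop) (a b : T ⟶ Z) (h : f ≫ a = f ≫ b) : a = b := by
  let mk : Scheme.{u} → Over (⊤_ Scheme.{u}) := fun W => Over.mk (terminal.from W)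
  let hom : ∀ {W W' : Scheme.{u}}, (W ⟶ W') → (mk W ⟶ mk W') := fun k => Over.homMk k (Subsingleton.elim _ _)
  have : IsAffine (mk T).left := ‹IsAffine T›
  have : IsAffine (mk T').left := ‹IsAffine T'›
  have : IsFinite (hom f).left := ‹IsFinite f›
  have h1 := eq_of_comp_eq (IsAlgSpace.yon_obj (mk Z)) (hom f) hinj ((yon _).map (hom a)) ((yon _).map (hom b))
    (by rw [← Functor.map_comp, ← Functor.map_comp, show hom f ≫ hom a = hom f ≫ hom b from Over.OverMorphism.ext h])
  exact congrArg CommaMorphism.left ((yon _).map_injective h1)

end Groth.Agent.FinQuotSp10
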