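import Mathlib.AlgebraicGeometry.Cover.Open
import Mathlib.AlgebraicGeometry.Limits
import Mathlib.AlgebraicGeometry.Restrict
import Mathlib.AlgebraicGeometry.Gluing

/-!
# Gluing an invariant morphism from a fundamental domain of a finite group action
-/

set_option autoImplicit false
set_option backward.isDefEq.respectTransparency false
set_option backward.isDefEq.respectTransparency.types false

universe u

open CategoryTheory CategoryTheory.Limits AlgebraicGeometry TopologicalSpace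

namespace Groth.Agent.FinQuotSp10

/-- A morphism on an open piece, invariant under its stabilizer, glues to an invariant morphism when the translates
of the piece cover and are equal or disjoint. -/
theorem exists_glue {P U : Scheme.{u}} {G : Type u} [Group G] (a : G → (P ⟶ P))
    (hmul : ∀ g g', a (g * g') = a g' ≫ a g) (O : P.Opens) (Hs : Set G) (u₁ : O.toScheme ⟶ U)
    (hu : ∀ k ∈ Hs, ∀ {Z : Scheme.{u}} (b b' : Z ⟶ O.toScheme), b' ≫ O.ι = b ≫ O.ι ≫ a k → b ≫ u₁ = b' ≫ u₁)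
    (hdisj : ∀ k ∉ Hs, ∀ z ∈ O, a k z ∉ O) (hcov : ∀ z, ∃ g, a g z ∈ O) :
    ∃ s : P ⟶ U, (∀ k, a k ≫ s = s) ∧ ∀ g, (a g ⁻¹ᵁ O).ι ≫ s = a g ∣_ O ≫ u₁ := by
  let Q : G → P.Opens := fun g => a g ⁻¹ᵁ O
  have hQcov : IsOpenCover Q := IsOpenCover.mk (top_unique fun z _ => by
    obtain ⟨g, hg⟩ := hcov z
    exact Opens.mem_iSup.2 ⟨g, hg⟩)
  have hcomp : ∀ g g', a g ≫ a (g' * g⁻¹) = a g' := fun g g' => by
    rw [← hmul, inv_mul_cancel_right]
  have hpiece : ∀ (g g' : G) {Z : Scheme.{u}} (b : Z ⟶ (Q g).toScheme) (b' : Z ⟶ (Q g').toScheme),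
      b ≫ (Q g).ι = b' ≫ (Q g').ι → b ≫ (a g ∣_ O) ≫ u₁ = b' ≫ (a g' ∣_ O) ≫ u₁ := by
    intro g g' Z b b' hbb'
    by_cases hk : g' * g⁻¹ ∈ Hs
    · have e : (b' ≫ a g' ∣_ O) ≫ O.ι = (b ≫ a g ∣_ O) ≫ O.ι ≫ a (g' * g⁻¹) := by
        rw [Category.assoc, Category.assoc, morphismRestrict_ι, ← Category.assoc b', ← hbb',
          ← Category.assoc (a g ∣_ O), morphismRestrict_ι, Category.assoc, Category.assoc, hcomp]

      have := hu _ hk (b ≫ a g ∣_ O) (b' ≫ a g' ∣_ O) e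
      rwa [Category.assoc, Category.assoc] at this
    · have : IsEmpty Z := ⟨fun z => by
        refine hdisj _ hk (a g ((b ≫ (Q g).ι) z)) (b z).2 ?_
        rw [← Scheme.Hom.comp_apply (a g), hcomp, hbb']
        exact (b' z).2⟩
      exact isInitialOfIsEmpty.hom_ext _ _
  let 𝒰 := P.openCoverOfIsOpenCover Q hQcov
  let s : P ⟶ U := Scheme.Cover.glueMorphisms 𝒰 (fun g => (a g ∣_ O) ≫ u₁)
    fun g g' => hpiece g g' _ _ pullback.condition
  have hs : ∀ g : G, (Q g).ι ≫ s = a g ∣_ O ≫ u₁ := Scheme.Cover.ι_glueMorphisms 𝒰 _ _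
  refine ⟨s, fun k => Scheme.Cover.hom_ext 𝒰 _ _ fun (g : G) => ?_, hs⟩
  show (Q g).ι ≫ a k ≫ s = (Q g).ι ≫ s
  let c : (Q g).toScheme ⟶ (Q (g * k⁻¹)).toScheme := IsOpenImmersion.lift (Q (g * k⁻¹)).ι
    ((Q g).ι ≫ a k) (by
      rw [Scheme.Opens.range_ι]
      rintro _ ⟨z, rfl⟩
      show a (g * k⁻¹) (a k z.1) ∈ O
      rw [← Scheme.Hom.comp_apply, ← hmul, inv_mul_cancel_right]
      exact z.2)
  have hc : c ≫ (Q (g * k⁻¹)).ι = (Q g).ι ≫ a k := IsOpenImmersion.lift_fac _ _ _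
  have h1 : c ≫ a (g * k⁻¹) ∣_ O = a g ∣_ O := by
    rw [← cancel_mono O.ι, Category.assoc, morphismRestrict_ι, reassoc_of% hc, ← hmul, inv_mul_cancel_right,
      morphismRestrict_ι]
  rw [← reassoc_of% hc, hs, reassoc_of% h1, hs]

end Groth.Agent.FinQuotSp10
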