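import Groth.Agent.MorLib.EtaleGeomPoint
import Mathlib.AlgebraicGeometry.Morphisms.QuasiFinite
import Mathlib.AlgebraicGeometry.Morphisms.Etale
import Mathlib.AlgebraicGeometry.Morphisms.Finite

/-!
# Isolating a geometric point of a quasi-finite scheme by an étale neighbourhood of the base
-/

set_option autoImplicit false
set_option backward.isDefEq.respectTransparency false
set_option backward.isDefEq.respectTransparency.types false

universe u

open CategoryTheory CategoryTheory.Limits AlgebraicGeometry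
open scoped TensorProduct

namespace Groth.Agent.FinQuotSp10

variable {Ω : Type u} [Field Ω] [IsAlgClosed Ω]

theorem mem_basicOpen_iff {C : Type u} [CommRing C] (ψ : C →+* Ω) (e : C) :
    (Spec.map (CommRingCat.ofHom ψ)) (IsLocalRing.closedPoint Ω) ∈ PrimeSpectrum.basicOpen e ↔ ψ e ≠ 0 := by
  show ψ e ∉ IsLocalRing.maximalIdeal Ω ↔ _
  rw [IsLocalRing.maximalIdeal_eq_bot, Ideal.mem_bot]

/-- `exists_isolated`, for spectra. -/
theorem exists_isolated_spec {R C : Type u} [CommRing R] [CommRing C] [Algebra R C] [Algebra.QuasiFinite R C]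
    [Algebra.FiniteType R C] (sv : Spec (CommRingCat.of Ω) ⟶ Spec (CommRingCat.of C)) :
    ∃ (T : Scheme.{u}) (q : T ⟶ Spec (CommRingCat.of R)) (t : Spec (CommRingCat.of Ω) ⟶ T),
      IsAffine T ∧ Etale q ∧ t ≫ q = sv ≫ Spec.map (CommRingCat.ofHom (algebraMap R C)) ∧
      ∀ (W : Scheme.{u}) (pT : W ⟶ T) (pV : W ⟶ Spec (CommRingCat.of C)),
        IsPullback pT pV q (Spec.map (CommRingCat.ofHom (algebraMap R C))) →
        ∃ F : W.Opens, IsFinite (F.ι ≫ pT) ∧
          (∀ w : Spec (CommRingCat.of Ω) ⟶ W, w ≫ pT = t → w ≫ pV = sv → w (IsLocalRing.closedPoint Ω) ∈ F) ∧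
          ∀ w : Spec (CommRingCat.of Ω) ⟶ W, w ≫ pT = t → w (IsLocalRing.closedPoint Ω) ∈ F → w ≫ pV = sv := by
  obtain ⟨ψ, rfl⟩ := Spec.map_surjective sv
  let _ : Algebra R Ω := (ψ.hom.comp (algebraMap R C)).toAlgebra
  let s : C →ₐ[R] Ω := { ψ.hom with commutes' := fun _ => rfl }
  have := RingHom.ker_isPrime (s : C →+* Ω)
  obtain ⟨R', _, _, _, r, e, -, hfin, hse, huniq⟩ :=
    Groth.Agent.MorLib.EGP.exists_etale_isolated_geomPoint s (by infer_instance)
  refine ⟨Spec (CommRingCat.of R'), Spec.map (CommRingCat.ofHom (algebraMap R R')),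
    Spec.map (CommRingCat.ofHom r.toRingHom), inferInstance, ?_, ?_, fun W pT pV hW => ?_⟩
  · refine (HasRingHomProperty.Spec_iff (P := @Etale)).2 ?_
    rw [CommRingCat.hom_ofHom, RingHom.etale_algebraMap]
    infer_instance
  · rw [← Spec.map_comp, ← Spec.map_comp]
    exact congrArg Spec.map (CommRingCat.hom_ext r.comp_algebraMap)
  let j : W ≅ Spec (CommRingCat.of (R' ⊗[R] C)) := hW.isoPullback ≪≫ pullbackSpecIso R R' C
  have hj1 : j.hom ≫ Spec.map (CommRingCat.ofHom (algebraMap R' (R' ⊗[R] C))) = pT := by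
    simp only [j, Iso.trans_hom, Category.assoc]
    erw [pullbackSpecIso_hom_fst, hW.isoPullback_hom_fst]
  have hj2 : j.hom ≫ Spec.map (CommRingCat.ofHom (Algebra.TensorProduct.includeRight : C →ₐ[R] R' ⊗[R] C).toRingHom) = pV := by
    simp only [j, Iso.trans_hom, Category.assoc]
    erw [pullbackSpecIso_hom_snd, hW.isoPullback_hom_snd]
  let U : (Spec (CommRingCat.of (R' ⊗[R] C))).Opens := PrimeSpectrum.basicOpen e
  have key : ∀ s' : C →ₐ[R] Ω,
      Spec.map (CommRingCat.ofHom (Algebra.TensorProduct.lift r s' fun _ _ => .all _ _).toRingHom)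
        (IsLocalRing.closedPoint Ω) ∈ U ↔ Algebra.TensorProduct.lift r s' (fun _ _ => .all _ _) e ≠ 0 :=
    fun s' => mem_basicOpen_iff _ e
  have pts : ∀ (w : Spec (CommRingCat.of Ω) ⟶ W), w ≫ pT = Spec.map (CommRingCat.ofHom r.toRingHom) →
      ∃ s' : C →ₐ[R] Ω, w ≫ pV = Spec.map (CommRingCat.ofHom s'.toRingHom) ∧ w ≫ j.hom =
        Spec.map (CommRingCat.ofHom (Algebra.TensorProduct.lift r s' fun _ _ => .all _ _).toRingHom) := by
    intro w hw
    obtain ⟨ψ', hψ'⟩ := Spec.map_surjective (w ≫ pV)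
    have hc : ψ'.hom.comp (algebraMap R C) = algebraMap R Ω := by
      have := w ≫= hW.w
      rw [reassoc_of% hw, ← Category.assoc, ← hψ', ← Spec.map_comp, ← Spec.map_comp] at this
      exact (congrArg CommRingCat.Hom.hom (Spec.map_injective this)).symm.trans r.comp_algebraMap
    let s' : C →ₐ[R] Ω := { ψ'.hom with commutes' := fun x => RingHom.congr_fun hc x }
    refine ⟨s', hψ'.symm, ?_⟩
    rw [← cancel_mono j.inv, Category.assoc, j.hom_inv_id, Category.comp_id]
    refine hW.hom_ext ?_ ?_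
    · rw [hw, ← hj1, Category.assoc, j.inv_hom_id_assoc, ← Spec.map_comp]
      congr 1
      ext x
      show r x = Algebra.TensorProduct.lift r s' (fun _ _ => .all _ _) (x ⊗ₜ[R] 1)
      simp
    · rw [← hψ', ← hj2, Category.assoc, j.inv_hom_id_assoc, ← Spec.map_comp]
      congr 1
      ext x
      show ψ'.hom x = Algebra.TensorProduct.lift r s' (fun _ _ => .all _ _) (1 ⊗ₜ[R] x)
      simp [s']
  refine ⟨j.hom ⁻¹ᵁ U, ?_, fun w hw hwV => ?_, fun w hw hwF => ?_⟩
  · let i := basicOpenIsoSpecAway (R := CommRingCat.of (R' ⊗[R] C)) e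
    have : IsFinite (Spec.map (CommRingCat.ofHom (algebraMap R' (Localization.Away e)))) := by
      refine (IsFinite.SpecMap_iff _).2 ?_
      rw [CommRingCat.hom_ofHom, RingHom.finite_algebraMap]
      exact hfin
    have h1 : ((j.hom ∣_ U) ≫ i.hom) ≫ Spec.map (CommRingCat.ofHom (algebraMap R' (Localization.Away e))) =
        (j.hom ⁻¹ᵁ U).ι ≫ pT := by
      rw [← hj1, IsScalarTower.algebraMap_eq R' (R' ⊗[R] C) (Localization.Away e), CommRingCat.ofHom_comp,
        Spec.map_comp, Category.assoc, ← Category.assoc i.hom, basicOpenIsoSpecAway_hom_SpecMap]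
      rw [← Category.assoc, morphismRestrict_ι, Category.assoc]
    rw [← h1]
    infer_instance
  · obtain ⟨s', hs', hw'⟩ := pts w hw
    have : s' = s := AlgHom.coe_ringHom_injective (congrArg CommRingCat.Hom.hom
      (Spec.map_injective (hs'.symm.trans hwV)))
    show j.hom (w _) ∈ U
    rw [← Scheme.Hom.comp_apply, hw', key, this]
    exact hse
  · obtain ⟨s', hs', hw'⟩ := pts w hw
    have h2 : j.hom (w (IsLocalRing.closedPoint Ω)) ∈ U := hwF
    rw [← Scheme.Hom.comp_apply, hw', key] at h2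
    rw [hs', huniq s' h2]
    rfl

/-- A geometric point of a quasi-finite affine scheme over an affine base is isolated after an étale base change,
with finite neighbourhood. -/
theorem exists_isolated {V Y : Scheme.{u}} [IsAffine V] [IsAffine Y] (g : V ⟶ Y) [LocallyQuasiFinite g]
    [LocallyOfFiniteType g] (sv : Spec (CommRingCat.of Ω) ⟶ V) :
    ∃ (T : Scheme.{u}) (q : T ⟶ Y) (t : Spec (CommRingCat.of Ω) ⟶ T),
      IsAffine T ∧ Etale q ∧ t ≫ q = sv ≫ g ∧
      ∀ (W : Scheme.{u}) (pT : W ⟶ T) (pV : W ⟶ V), IsPullback pT pV q g →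
        ∃ F : W.Opens, IsFinite (F.ι ≫ pT) ∧
          (∀ w : Spec (CommRingCat.of Ω) ⟶ W, w ≫ pT = t → w ≫ pV = sv → w (IsLocalRing.closedPoint Ω) ∈ F) ∧
          ∀ w : Spec (CommRingCat.of Ω) ⟶ W, w ≫ pT = t → w (IsLocalRing.closedPoint Ω) ∈ F → w ≫ pV = sv := by
  let _ := g.appTop.hom.toAlgebra
  have : Algebra.QuasiFinite Γ(Y, ⊤) Γ(V, ⊤) :=
    (HasRingHomProperty.iff_of_isAffine (P := @LocallyQuasiFinite)).1 ‹_›
  have : Algebra.FiniteType Γ(Y, ⊤) Γ(V, ⊤) :=
    (HasRingHomProperty.iff_of_isAffine (P := @LocallyOfFiniteType)).1 ‹_›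
  let g' := Spec.map (CommRingCat.ofHom (algebraMap Γ(Y, ⊤) Γ(V, ⊤)))
  have hg : V.isoSpec.hom ≫ g' = g ≫ Y.isoSpec.hom := (Scheme.isoSpec_hom_naturality g)
  obtain ⟨T, q, t, hT, hq, ht, H⟩ := exists_isolated_spec (R := Γ(Y, ⊤)) (sv ≫ V.isoSpec.hom)
  refine ⟨T, q ≫ Y.isoSpec.inv, t, hT, inferInstance, ?_, fun W pT pV hW => ?_⟩
  · rw [reassoc_of% ht, reassoc_of% hg, Y.isoSpec.hom_inv_id, Category.comp_id]
  · obtain ⟨F, h1, h2, h3⟩ := H W pT (pV ≫ V.isoSpec.hom) (hW.of_iso (Iso.refl _) (Iso.refl _) V.isoSpec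
      Y.isoSpec (by simp) (by simp) (by simp) hg.symm)
    refine ⟨F, h1, fun w a b => h2 w a (by rw [reassoc_of% b]), fun w a b => ?_⟩
    have := h3 w a b
    rwa [← Category.assoc, cancel_mono] at this

end Groth.Agent.FinQuotSp10
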