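import Mathlib.AlgebraicGeometry.AlgClosed.Basic
import Mathlib.AlgebraicGeometry.Morphisms.Finite
import Mathlib.AlgebraicGeometry.Morphisms.QuasiFinite
import Mathlib.AlgebraicGeometry.Morphisms.Etale
import Mathlib.AlgebraicGeometry.PullbackCarrier
import Mathlib.RingTheory.Invariant.Basic
import Mathlib.Algebra.Polynomial.GroupRingAction

/-!
# Geometric points of a finite group quotient are orbits; geometric points of finite morphisms
-/

set_option autoImplicit false
set_option backward.isDefEq.respectTransparency false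
set_option backward.isDefEq.respectTransparency.types false

universe u

open CategoryTheory CategoryTheory.Limits AlgebraicGeometry

namespace Groth.Agent.FinQuotSp10

section Orbit

variable {A D : Type u} [CommRing A] [CommRing D] [IsDomain D] {G : Type u} [Group G] [Finite G]
  [MulSemiringAction G A]

/-- Two maps to a domain which agree on invariants differ elementwise by a group element. -/
theorem exists_apply_eq (x x' : A →+* D) (h : ∀ a, (∀ g : G, g • a = a) → x a = x' a) (a : A) :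
    ∃ g : G, x' a = x (g • a) := by
  classical
  let _ := Fintype.ofFinite G
  let P := MulSemiringAction.charpoly G a
  have hP : P.map x = P.map x' := Polynomial.ext fun n => by
    rw [Polynomial.coeff_map, Polynomial.coeff_map]
    exact h _ fun g => MulSemiringAction.smul_coeff_charpoly a n g
  have h0 : (P.map x).eval (x' a) = 0 := by
    rw [hP, Polynomial.eval_map_apply, MulSemiringAction.eval_charpoly, map_zero]
  simp only [P, MulSemiringAction.charpoly_eq, Polynomial.map_prod, Polynomial.map_sub,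
    Polynomial.map_X, Polynomial.map_C, Polynomial.eval_prod, Polynomial.eval_sub, Polynomial.eval_X,
    Polynomial.eval_C, Finset.prod_eq_zero_iff, sub_eq_zero] at h0
  obtain ⟨g, -, hg⟩ := h0
  exact ⟨g, hg⟩

/-- Two maps to a domain which agree on invariants differ by a group element. -/
theorem exists_smul_eq (x x' : A →+* D) (h : ∀ a, (∀ g : G, g • a = a) → x a = x' a) :
    ∃ g : G, ∀ a, x' a = x (g • a) := by
  classical
  by_contra hne
  push Not at hne
  choose a ha using hne
  let _ := Fintype.ofFinite G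
  let e := Fintype.equivFin G
  let P : Polynomial A := ∑ g, Polynomial.monomial (e g : ℕ) (a g)
  have hc : ∀ g, P.coeff (e g : ℕ) = a g := fun g => by
    simp only [P, Polynomial.finsetSum_coeff, Polynomial.coeff_monomial]
    rw [Finset.sum_eq_single g (fun b _ hb => if_neg fun hh => hb (e.injective (Fin.ext hh)))
      (fun hh => absurd (Finset.mem_univ _) hh), if_pos rfl]
  obtain ⟨g, hg⟩ := exists_apply_eq (G := G) (Polynomial.mapRingHom x) (Polynomial.mapRingHom x')
    (fun Q hQ => Polynomial.ext fun n => by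
      simp only [Polynomial.coe_mapRingHom, Polynomial.coeff_map]
      refine h _ fun k => ?_
      have := congrArg (Polynomial.coeff · n) (hQ k)
      simpa [Polynomial.smul_eq_map] using this) P
  refine ha g ?_
  have := congrArg (Polynomial.coeff · (e g : ℕ)) hg
  simpa [Polynomial.coe_mapRingHom, Polynomial.coeff_map, Polynomial.smul_eq_map, hc] using this

end Orbit

variable {P T : Scheme.{u}} {Ω : Type u} [Field Ω]

/-- A geometric point of the base lifts through every point of a finite scheme over it. -/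
theorem exists_pt_over [IsAlgClosed Ω] (π : P ⟶ T) [IsFinite π] (t : Spec (CommRingCat.of Ω) ⟶ T) (z : P)
    (hz : π z = t (IsLocalRing.closedPoint Ω)) :
    ∃ z' : Spec (CommRingCat.of Ω) ⟶ P, z' ≫ π = t ∧ z' (IsLocalRing.closedPoint Ω) = z := by
  obtain ⟨w, hw, -⟩ := Scheme.Pullback.exists_preimage_pullback (f := π) (g := t) z (IsLocalRing.closedPoint Ω) hz
  let pr : pullback π t ⟶ Spec (CommRingCat.of Ω) := pullback.snd π t
  have : IsFinite pr := inferInstance
  have hd : DiscreteTopology ↥(pullback π t) := by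
    have h1 := pr.isDiscrete_preimage_singleton (IsLocalRing.closedPoint Ω)
    rw [show pr ⁻¹' {IsLocalRing.closedPoint Ω} = Set.univ from
      Set.eq_univ_of_forall fun x => Subsingleton.elim _ _] at h1
    exact isDiscrete_univ_iff.1 h1
  have hcl : IsClosed ({w} : Set ↥(pullback π t)) := isClosed_discrete _
  refine ⟨pointOfClosedPoint pr w hcl ≫ pullback.fst π t, ?_, ?_⟩
  · rw [Category.assoc, pullback.condition, pointOfClosedPoint_comp_assoc]
  · rw [Scheme.Hom.comp_apply, pointOfClosedPoint_apply, hw]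

/-- A closed subset of a finite scheme missing the fibre of a point misses the preimage of a neighbourhood. -/
theorem exists_nhd_of_fibre (π : P ⟶ T) [IsFinite π] {Z : Set P} (hZ : IsClosed Z) (y : T)
    (h : ∀ z ∈ Z, π z ≠ y) : ∃ U : T.Opens, y ∈ U ∧ ∀ z, π z ∈ U → z ∉ Z :=
  ⟨⟨(π '' Z)ᶜ, (π.isClosedMap Z hZ).isOpen_compl⟩, fun ⟨z, hz, e⟩ => h z hz e,
    fun z hz hzZ => hz ⟨z, hzZ, rfl⟩⟩

/-- A clopen piece of a finite scheme with a group action isolating one geometric point splits the scheme into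
translates near the image of the point. -/
theorem exists_split_nhd [IsAlgClosed Ω] {G : Type u} [Group G] [Finite G] (π : P ⟶ T) [IsFinite π] (a : G → (P ⟶ P))
    (haπ : ∀ g, a g ≫ π = π) (hinv : ∀ g, a g ≫ a g⁻¹ = 𝟙 P) (t : Spec (CommRingCat.of Ω) ⟶ T)
    (x : Spec (CommRingCat.of Ω) ⟶ P) (O : P.Opens) (hOc : IsClosed (O : Set P))
    (hxO : x (IsLocalRing.closedPoint Ω) ∈ O)
    (huniq : ∀ x' : Spec (CommRingCat.of Ω) ⟶ P, x' ≫ π = t → x' (IsLocalRing.closedPoint Ω) ∈ O → x' = x)
    (horb : ∀ x' : Spec (CommRingCat.of Ω) ⟶ P, x' ≫ π = t → ∃ g, x' ≫ a g = x)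
    (W : Set P) (hW : IsOpen W) (hxW : x (IsLocalRing.closedPoint Ω) ∈ W) :
    ∃ U : T.Opens, IsAffineOpen U ∧ t (IsLocalRing.closedPoint Ω) ∈ U ∧ ∀ z : P, π z ∈ U →
      (z ∈ O → z ∈ W) ∧ (∀ g, x ≫ a g = x → (z ∈ O ↔ a g z ∈ O)) ∧
      (∀ g, x ≫ a g ≠ x → ¬ (z ∈ O ∧ a g z ∈ O)) ∧ ∃ g, a g z ∈ O := by
  classical
  let pre : G → Set P := fun g => a g ⁻¹' (O : Set P)
  have hpo : ∀ g, IsOpen (pre g) := fun g => O.2.preimage (a g).continuous
  have hpc : ∀ g, IsClosed (pre g) := fun g => hOc.preimage (a g).continuous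
  let H : Set G := {g | x ≫ a g = x}
  let Z : Set P := ((O : Set P) \ W) ∪ (⋃ g : H, ((O : Set P) \ pre g.1) ∪ (pre g.1 \ O)) ∪
    (⋃ g : (Hᶜ : Set G), (O : Set P) ∩ pre g.1) ∪ (⋃ g, pre g)ᶜ
  have hOo : IsOpen (O : Set P) := O.isOpen
  have hZ : IsClosed Z := by
    refine IsClosed.union (IsClosed.union (IsClosed.union ?_ ?_) ?_) ?_
    · exact hOc.inter hW.isClosed_compl
    · exact isClosed_iUnion_of_finite fun g : H =>
        IsClosed.union (hOc.inter (hpo g.1).isClosed_compl) ((hpc g.1).inter hOo.isClosed_compl)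
    · exact isClosed_iUnion_of_finite fun g : (Hᶜ : Set G) => hOc.inter (hpc g.1)
    · exact (isOpen_iUnion hpo).isClosed_compl
  have hpre : ∀ x' : Spec (CommRingCat.of Ω) ⟶ P, x' ≫ π = t → ∀ g,
      x' (IsLocalRing.closedPoint Ω) ∈ pre g ↔ x' ≫ a g = x := by
    intro x' hx' g
    constructor
    · intro hz
      refine huniq _ (by rw [Category.assoc, haπ, hx']) ?_
      rw [Scheme.Hom.comp_apply]; exact hz
    · intro he
      show a g (x' _) ∈ O
      rw [← Scheme.Hom.comp_apply, he]; exact hxO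
  obtain ⟨U', htU', hU'⟩ := exists_nhd_of_fibre π hZ (t (IsLocalRing.closedPoint Ω)) (by
    intro z hz hzt
    obtain ⟨x', hx', rfl⟩ := exists_pt_over π t z hzt
    have hO' : x' (IsLocalRing.closedPoint Ω) ∈ O ↔ x' = x := ⟨huniq x' hx', fun e => e ▸ hxO⟩
    rcases hz with ((hz | hz) | hz) | hz
    · exact hz.2 (hO'.1 hz.1 ▸ hxW)
    · obtain ⟨⟨g, hg⟩, hz⟩ := Set.mem_iUnion.1 hz
      rcases hz with ⟨h1, h2⟩ | ⟨h1, h2⟩
      · exact h2 ((hpre x' hx' g).2 (by rw [hO'.1 h1]; exact hg))
      · refine h2 (hO'.2 ?_)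
        have e1 := congrArg (· ≫ a g⁻¹) ((hpre x' hx' g).1 h1)
        have e2 := congrArg (· ≫ a g⁻¹) (show x ≫ a g = x from hg)
        simp only [Category.assoc, hinv, Category.comp_id] at e1 e2
        exact e1.trans e2.symm
    · obtain ⟨⟨g, hg⟩, h1, h2⟩ := Set.mem_iUnion.1 hz
      exact hg ((congrArg (· ≫ a g) (hO'.1 h1)).symm.trans ((hpre x' hx' g).1 h2))
    · obtain ⟨g, hg⟩ := horb x' hx'
      exact hz (Set.mem_iUnion.2 ⟨g, (hpre x' hx' g).2 hg⟩))
  obtain ⟨U, hU, htU, hUU⟩ := exists_isAffineOpen_mem_and_subset (U := U') htU'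
  refine ⟨U, hU, htU, fun z hz => ?_⟩
  have hn := hU' z (hUU hz)
  refine ⟨fun hzO => ?_, fun g hg => ⟨fun hzO => ?_, fun hzO => ?_⟩, fun g hg hc => ?_, ?_⟩
  · by_contra h
    exact hn (Or.inl (Or.inl (Or.inl ⟨hzO, h⟩)))
  · by_contra h
    exact hn (Or.inl (Or.inl (Or.inr (Set.mem_iUnion.2 ⟨⟨g, hg⟩, Or.inl ⟨hzO, h⟩⟩))))
  · by_contra h
    exact hn (Or.inl (Or.inl (Or.inr (Set.mem_iUnion.2 ⟨⟨g, hg⟩, Or.inr ⟨hzO, h⟩⟩))))
  · exact hn (Or.inl (Or.inr (Set.mem_iUnion.2 ⟨⟨g, hg⟩, hc⟩)))
  · by_contra h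
    exact hn (Or.inr fun hh => h (by obtain ⟨g, hg⟩ := Set.mem_iUnion.1 hh; exact ⟨g, hg⟩))

end Groth.Agent.FinQuotSp10
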