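import Groth.Agent.FinQuotSp10.Glue
import Groth.Agent.FinQuotSp10.Pts
import Groth.Agent.FinQuotSp10.Isolate
import Groth.Agent.FinQuotSp10.Equalizer
import Groth.Agent.AlgStLib.CatModuliLocal
import Mathlib.AlgebraicGeometry.Morphisms.FlatMono
import Mathlib.AlgebraicGeometry.Morphisms.FormallyUnramified

/-!
# Invariant maps from a finite group quotient to an algebraic space lift étale locally on the quotient
-/

set_option autoImplicit false
set_option backward.isDefEq.respectTransparency false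
set_option backward.isDefEq.respectTransparency.types false

universe u

open CategoryTheory CategoryTheory.Limits AlgebraicGeometry Opposite AlgSp

namespace Groth.Agent.FinQuotSp10

variable {S : Scheme.{u}} {X Y : Over S} {G : Type u} [Group G]

/-- The data of a finite quotient of affine schemes by a finite group. -/
structure IsFinQuot (f : X ⟶ Y) (σ : G → (X ⟶ X)) : Prop where
  affX : IsAffine X.left
  affY : IsAffine Y.left
  finite : IsFinite f.left
  comp_f : ∀ g, σ g ≫ f = f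
  σ_one : σ 1 = 𝟙 X
  σ_mul : ∀ g g', σ (g * g') = σ g' ≫ σ g
  orbit : ∀ (Ω : Type u) [Field Ω] [IsAlgClosed Ω] (x x' : Spec (CommRingCat.of Ω) ⟶ X.left),
    x ≫ f.left = x' ≫ f.left → ∃ g, x ≫ (σ g).left = x'
  inj : ∀ (T : Scheme.{u}) (q : T ⟶ Y.left) [Flat q] [IsAffine T],
    Function.Injective (pullback.fst q f.left).appTop
  desc : ∀ (T : Scheme.{u}) (q : T ⟶ Y.left) [Flat q] [IsAffine T] (z : Γ(pullback q f.left, ⊤)),
    (∀ (g : G) (σ' : pullback q f.left ⟶ pullback q f.left), σ' ≫ pullback.fst q f.left = pullback.fst q f.left →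
      σ' ≫ pullback.snd q f.left = pullback.snd q f.left ≫ (σ g).left → σ'.appTop z = z) →
    z ∈ Set.range (pullback.fst q f.left).appTop

section Pb

variable {f : X ⟶ Y} {σ : G → (X ⟶ X)} (hf : IsFinQuot f σ) {T : Scheme.{u}} (q : T ⟶ Y.left)

/-- The action on a base change. -/
noncomputable def act (g : G) : pullback q f.left ⟶ pullback q f.left :=
  pullback.lift (pullback.fst q f.left) (pullback.snd q f.left ≫ (σ g).left) (by
    rw [Category.assoc, ← Over.comp_left, hf.comp_f, pullback.condition])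

@[reassoc]
theorem act_fst (g : G) : act hf q g ≫ pullback.fst q f.left = pullback.fst q f.left :=
  pullback.lift_fst _ _ _

@[reassoc]
theorem act_snd (g : G) : act hf q g ≫ pullback.snd q f.left = pullback.snd q f.left ≫ (σ g).left :=
  pullback.lift_snd _ _ _

theorem act_one : act hf q (1 : G) = 𝟙 _ := by
  apply pullback.hom_ext
  · rw [act_fst, Category.id_comp]
  · rw [act_snd, hf.σ_one, Category.id_comp]; exact Category.comp_id _

theorem act_mul (g g' : G) : act hf q (g * g') = act hf q g' ≫ act hf q g := by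
  apply pullback.hom_ext
  · rw [Category.assoc, act_fst, act_fst, act_fst]
  · rw [Category.assoc, act_snd, act_snd, act_snd_assoc, hf.σ_mul, Over.comp_left]

theorem act_act_inv (g : G) : act hf q g ≫ act hf q g⁻¹ = 𝟙 _ := by
  rw [← act_mul, inv_mul_cancel, act_one]

end Pb

theorem yon_cancel {N : Sp S} {A B C : Over S} {a : A ⟶ B} {b : B ⟶ C} {c : A ⟶ C} (e : a ≫ b = c)
    (k : (yon S).obj C ⟶ N) : (yon S).map a ≫ (yon S).map b ≫ k = (yon S).map c ≫ k := by
  rw [← Category.assoc, ← Functor.map_comp, e]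

/-- Maps out of a scheme are determined on an open cover. -/
theorem hom_ext_of_cover {N : Sp S} {ι : Type u} {W : Over S} (V : ι → Over S) (v : ∀ i, V i ⟶ W)
    (hv : ∀ i, IsOpenImmersion (v i).left) (hs : ∀ x : W.left, ∃ i, x ∈ Set.range (v i).left)
    (a b : (yon S).obj W ⟶ N) (h : ∀ i, (yon S).map (v i) ≫ a = (yon S).map (v i) ≫ b) : a = b := by
  apply (J S).uliftYonedaEquiv.injective
  let R : Sieve W :=
    { arrows := fun V' k => ∃ i, ∃ k' : V' ⟶ V i, k' ≫ v i = k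
      downward_closed := fun {_ _ _} ⟨i, k', e⟩ g => ⟨i, g ≫ k', by rw [Category.assoc, e]⟩ }
  refine AlgStLib.CatModLocal.ext_of_covering
    (AlgStLib.CatModLocal.mem_J_of_openImm V v hv hs R fun i => ⟨i, 𝟙 _, Category.id_comp _⟩) ?_
  rintro V' k ⟨i, k', rfl⟩
  have h1 := congrArg (fun z => (J S).uliftYonedaEquiv ((yon S).map k' ≫ z)) (h i)
  simp only [← Category.assoc, ← Functor.map_comp] at h1
  rw [GrothendieckTopology.map_uliftYonedaEquiv', GrothendieckTopology.map_uliftYonedaEquiv']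
  exact h1

/-- Two lifts through an étale map agreeing at a point agree near it. -/
theorem exists_agree {Z V : Scheme.{u}} {B : Scheme.{u}} (p : V ⟶ B) [Etale p] (a₁ a₂ : Z ⟶ V)
    (w : a₁ ≫ p = a₂ ≫ p) {Ω : Type u} [Field Ω] (x : Spec (CommRingCat.of Ω) ⟶ Z) (hx : x ≫ a₁ = x ≫ a₂) :
    ∃ E : Z.Opens, x (IsLocalRing.closedPoint Ω) ∈ E ∧
      ∀ {Z' : Scheme.{u}} (b : Z' ⟶ Z), (∀ z, b z ∈ E) → b ≫ a₁ = b ≫ a₂ := by
  let l := pullback.lift a₁ a₂ w
  refine ⟨l ⁻¹ᵁ (pullback.diagonal p).opensRange, ?_, fun {Z'} b hb => ?_⟩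
  · show l (x _) ∈ (pullback.diagonal p).opensRange
    rw [← Scheme.Hom.comp_apply]
    refine ⟨(x ≫ a₁) (IsLocalRing.closedPoint Ω), ?_⟩
    rw [← Scheme.Hom.comp_apply]
    suffices (x ≫ a₁) ≫ pullback.diagonal p = x ≫ l by rw [this]
    apply pullback.hom_ext
    · simp [l, pullback.lift_fst]
    · simp [l, pullback.lift_snd, hx]
  · let d := IsOpenImmersion.lift (pullback.diagonal p) (b ≫ l) (by
      rintro _ ⟨z, rfl⟩; exact hb z)
    have hd : d ≫ pullback.diagonal p = b ≫ l := IsOpenImmersion.lift_fac _ _ _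
    have h1 := hd =≫ pullback.fst p p
    have h2 := hd =≫ pullback.snd p p
    simp only [Category.assoc, pullback.diagonal_fst, pullback.diagonal_snd, Category.comp_id, l,
      pullback.lift_fst, pullback.lift_snd] at h1 h2
    rw [← h1, ← h2]

set_option maxHeartbeats 1000000 in
/-- An open piece of an étale base change carrying a lift to the atlas, whose translates cover disjointly. -/
theorem exists_piece [Finite G] {f : X ⟶ Y} {σ : G → (X ⟶ X)} (hf : IsFinQuot f σ) {N : Sp S}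
    (h : (yon S).obj X ⟶ N) (hh : ∀ g, (yon S).map (σ g) ≫ h = h) {U : Over S} (p : (yon S).obj U ⟶ N)
    (hp : RepWith @Etale p) (hps : RepWith @Surjective p) (y : Y.left) :
    ∃ (T : Scheme.{u}) (q : T ⟶ Y.left), IsAffine T ∧ Etale q ∧ y ∈ Set.range q ∧
      ∃ (O : (pullback q f.left).Opens) (Hs : Set G)
        (u₁ : Over.mk (O.ι ≫ pullback.snd q f.left ≫ X.hom) ⟶ U),
        (yon S).map u₁ ≫ p = (yon S).map (Over.homMk (O.ι ≫ pullback.snd q f.left) (Category.assoc _ _ _) :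
          Over.mk (O.ι ≫ pullback.snd q f.left ≫ X.hom) ⟶ X) ≫ h ∧
        (∀ k ∈ Hs, ∀ {Z : Scheme.{u}} (b b' : Z ⟶ O.toScheme),
          b' ≫ O.ι = b ≫ O.ι ≫ act hf q k → b ≫ u₁.left = b' ≫ u₁.left) ∧
        (∀ k ∉ Hs, ∀ z ∈ O, act hf q k z ∉ O) ∧ (∀ z, ∃ g, act hf q g z ∈ O) ∧
        ∃ U₀ : U.left.Opens, IsAffineOpen U₀ ∧ ∀ z, u₁.left z ∈ U₀ := by
  classical
  have := hf.affX
  have := hf.affY
  have := hf.finite
  -- a geometric point
  let V := hp.rep.pullback h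
  let pV : V ⟶ X := hp.rep.snd h
  let qV : V ⟶ U := hp.rep.fst' h
  have sqV : IsPullback ((yon S).map qV) ((yon S).map pV) p h := hp.rep.isPullback' h
  have : Etale pV.left := hp.property_snd h
  have : Surjective pV.left := hps.property_snd h
  have : Surjective f.left := by
    refine surjective_of_injective f.left ?_
    have e : (pullback.fst (𝟙 Y.left) f.left).appTop =
        f.left.appTop ≫ (pullback.snd (𝟙 Y.left) f.left).appTop := by
      rw [← Scheme.Hom.comp_appTop, ← pullback.condition, Category.comp_id]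
    have h0 := hf.inj Y.left (𝟙 _)
    rw [e] at h0
    exact Function.Injective.of_comp h0
  obtain ⟨x₀, hx₀⟩ := f.left.surjective y
  obtain ⟨v, hv⟩ := pV.left.surjective x₀
  obtain ⟨V₀, hV₀, hvV₀, -⟩ := exists_isAffineOpen_mem_and_subset (U := (⊤ : V.left.Opens)) (x := v) trivial
  have : IsAffine V₀.toScheme := hV₀
  let Ω : Type u := AlgebraicClosure (V₀.toScheme.residueField ⟨v, hvV₀⟩)
  let sv : Spec (CommRingCat.of Ω) ⟶ V₀.toScheme :=
    Spec.map (CommRingCat.ofHom (algebraMap (V₀.toScheme.residueField ⟨v, hvV₀⟩) Ω)) ≫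
      V₀.toScheme.fromSpecResidueField ⟨v, hvV₀⟩
  have hsv : sv (IsLocalRing.closedPoint Ω) = ⟨v, hvV₀⟩ := by
    simp only [sv]
    rw [Scheme.Hom.comp_apply]
    exact Scheme.fromSpecResidueField_apply _ _
  let pX : V₀.toScheme ⟶ X.left := V₀.ι ≫ pV.left
  obtain ⟨T, q, t, hT, hq, ht, H⟩ := exists_isolated (pX ≫ f.left) sv
  let P := pullback q f.left
  let pr : P ⟶ T := pullback.fst q f.left
  let pXP : P ⟶ X.left := pullback.snd q f.left
  let x : Spec (CommRingCat.of Ω) ⟶ P := pullback.lift t (sv ≫ pX) (by rw [ht]; exact (Category.assoc _ _ _).symm)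
  let c₀ := IsLocalRing.closedPoint Ω
  let W := pullback pXP pX
  have hW : IsPullback (pullback.fst pXP pX ≫ pr) (pullback.snd pXP pX) q (pX ≫ f.left) :=
    ((IsPullback.of_hasPullback pXP pX).flip.paste_vert (IsPullback.of_hasPullback q f.left).flip).flip
  obtain ⟨F, hFfin, hFmem, hFuniq⟩ := H W _ _ hW
  let π : F.toScheme ⟶ P := F.ι ≫ pullback.fst pXP pX
  have hπT : π ≫ pr = F.ι ≫ pullback.fst pXP pX ≫ pr := Category.assoc _ _ _
  have : IsFinite (π ≫ pr) := by rw [hπT]; exact hFfin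
  have : IsFinite π := IsFinite.of_comp π pr
  let w₀ : Spec (CommRingCat.of Ω) ⟶ W := pullback.lift x sv (pullback.lift_snd _ _ _)
  have hw₀ : w₀ c₀ ∈ F := hFmem w₀
    (by rw [pullback.lift_fst_assoc, pullback.lift_fst]) (pullback.lift_snd _ _ _)
  let w₁ : Spec (CommRingCat.of Ω) ⟶ F.toScheme := IsOpenImmersion.lift F.ι w₀ (by
    rintro _ ⟨z, rfl⟩
    rw [Scheme.Opens.range_ι, Subsingleton.elim z c₀]
    exact hw₀)
  have hw₁ : w₁ ≫ F.ι = w₀ := IsOpenImmersion.lift_fac _ _ _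
  have hw₁π : w₁ ≫ π = x := by rw [reassoc_of% hw₁]; exact pullback.lift_fst _ _ _
  have huniq : ∀ z : Spec (CommRingCat.of Ω) ⟶ F.toScheme, z ≫ π ≫ pr = t → z = w₁ := by
    intro z hz
    have e1 : (z ≫ F.ι) ≫ pullback.snd pXP pX = sv := by
      refine hFuniq (z ≫ F.ι) ?_ (z c₀).2
      rw [Category.assoc, ← hπT, hz]
    rw [← cancel_mono F.ι, hw₁]
    refine hW.hom_ext ?_ ?_
    · rw [Category.assoc, ← hπT, hz, pullback.lift_fst_assoc, pullback.lift_fst]
    · rw [e1, pullback.lift_snd]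
  -- the piece containing the point
  have hOo : IsOpen (Set.range π) := π.isOpenMap.isOpen_range
  have hOc : IsClosed (Set.range π) := π.isClosedMap.isClosed_range
  let O : P.Opens := ⟨Set.range π, hOo⟩
  have hOuniq : ∀ x' : Spec (CommRingCat.of Ω) ⟶ P, x' ≫ pr = t → x' c₀ ∈ O → x' = x := by
    rintro x' hx' ⟨z, hz⟩
    obtain ⟨z', hz', -⟩ := exists_pt_over π x' z hz
    rw [← hz', huniq z' (by rw [reassoc_of% hz', hx']), hw₁π]
  have hxO : x c₀ ∈ O := ⟨w₁ c₀, by rw [← Scheme.Hom.comp_apply, hw₁π]⟩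
  -- where the projection from the finite piece is an isomorphism
  let Δc : Set ↥(pullback π π) := (Set.range (pullback.diagonal π))ᶜ
  have hΔc : IsClosed Δc := (pullback.diagonal π).isOpenMap.isOpen_range.isClosed_compl
  have : IsFinite (pullback.fst π π ≫ π) := inferInstance
  let W0 : P.Opens := ⟨(O : Set P) ∩ ((pullback.fst π π ≫ π) '' Δc)ᶜ,
    hOo.inter ((pullback.fst π π ≫ π).isClosedMap _ hΔc).isOpen_compl⟩
  have hxW0 : x c₀ ∈ W0 := by
    refine ⟨hxO, ?_⟩
    rintro ⟨z, hz, e⟩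
    obtain ⟨z', hz', hzc⟩ := exists_pt_over (pullback.fst π π ≫ π) x z e
    have e1 : z' ≫ pullback.fst π π = w₁ := huniq _ (by
      rw [Category.assoc, reassoc_of% hz', pullback.lift_fst])
    have e2 : z' ≫ pullback.snd π π = w₁ := huniq _ (by
      rw [Category.assoc, ← pullback.condition_assoc, reassoc_of% hz', pullback.lift_fst])
    have e3 : w₁ ≫ pullback.diagonal π = z' := by
      apply pullback.hom_ext
      · rw [Category.assoc, pullback.diagonal_fst, Category.comp_id, e1]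
      · rw [Category.assoc, pullback.diagonal_snd, Category.comp_id, e2]
    exact hz ⟨w₁ c₀, by rw [← Scheme.Hom.comp_apply, e3, hzc]⟩
  let π₀ := π ∣_ W0
  have : Etale π₀ := IsZariskiLocalAtTarget.restrict (P := @Etale) (inferInstance : Etale π) W0
  have : Surjective π₀ := ⟨fun ⟨z, hz⟩ => by
    obtain ⟨a, ha⟩ := hz.1
    refine ⟨⟨a, show π a ∈ W0 from ha ▸ hz⟩, Subtype.ext ?_⟩
    show _ = z
    rw [morphismRestrict_base_coe]
    exact ha⟩
  have : Mono π₀ := ⟨fun {Z} a b e => by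
    rw [← cancel_mono (π ⁻¹ᵁ W0).ι]
    have e' : (a ≫ (π ⁻¹ᵁ W0).ι) ≫ π = (b ≫ (π ⁻¹ᵁ W0).ι) ≫ π := by
      rw [Category.assoc, Category.assoc, ← morphismRestrict_ι, reassoc_of% e]
    let l := pullback.lift _ _ e'
    have hl : Set.range l ⊆ Set.range (pullback.diagonal π) := by
      rintro _ ⟨z, rfl⟩
      by_contra hz
      refine (show π ((a ≫ (π ⁻¹ᵁ W0).ι) z) ∈ W0 from (a z).2).2 ⟨l z, hz, ?_⟩
      rw [← Scheme.Hom.comp_apply, ← Scheme.Hom.comp_apply, pullback.lift_fst_assoc]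
    let d := IsOpenImmersion.lift (pullback.diagonal π) l hl
    have hd : d ≫ pullback.diagonal π = l := IsOpenImmersion.lift_fac _ _ _
    have h1 := hd =≫ pullback.fst π π
    have h2 := hd =≫ pullback.snd π π
    simp only [Category.assoc, pullback.diagonal_fst, pullback.diagonal_snd, Category.comp_id, l,
      pullback.lift_fst, pullback.lift_snd] at h1 h2
    exact h1.symm.trans h2⟩
  have : IsOpenImmersion π₀ := IsOpenImmersion.of_flat_of_mono π₀
  have : IsIso π₀ := (isIso_iff_isOpenImmersion_and_surjective _).2 ⟨inferInstance, inferInstance⟩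
  -- the lift
  let vW : W0.toScheme ⟶ V.left :=
    inv π₀ ≫ (π ⁻¹ᵁ W0).ι ≫ F.ι ≫ pullback.snd pXP pX ≫ V₀.ι
  have hvW : vW ≫ pV.left = W0.ι ≫ pXP := by
    simp only [vW, Category.assoc]
    rw [show V₀.ι ≫ pV.left = pX from rfl, ← pullback.condition]
    rw [show (π ⁻¹ᵁ W0).ι ≫ F.ι ≫ pullback.fst pXP pX ≫ pXP = ((π ⁻¹ᵁ W0).ι ≫ π) ≫ pXP by
      simp only [π, Category.assoc], ← morphismRestrict_ι, Category.assoc]
    exact IsIso.inv_hom_id_assoc _ _
  let W0o : Over S := Over.mk (W0.ι ≫ pXP ≫ X.hom)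
  let cX : W0o ⟶ X := Over.homMk (W0.ι ≫ pXP) (Category.assoc _ _ _)
  let vV : W0o ⟶ V := Over.homMk vW (by
    show vW ≫ V.hom = W0.ι ≫ pXP ≫ X.hom
    rw [← Over.w pV, ← Category.assoc, hvW, Category.assoc])
  have hvV : vV ≫ pV = cX := Over.OverMorphism.ext hvW
  let u₀ : W0o ⟶ U := vV ≫ qV
  have hu₀ : (yon S).map u₀ ≫ p = (yon S).map cX ≫ h := by
    rw [Functor.map_comp, Category.assoc, sqV.w, yon_cancel hvV]
  -- invariance near the point
  let Hs : Set G := {g | x ≫ act hf q g = x}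
  have hE : ∀ g ∈ Hs, ∃ E : P.Opens, x c₀ ∈ E ∧ ∀ {Z : Scheme.{u}} (b b' : Z ⟶ W0.toScheme),
      (∀ z, (b ≫ W0.ι) z ∈ E) → b' ≫ W0.ι = b ≫ W0.ι ≫ act hf q g → b ≫ u₀.left = b' ≫ u₀.left := by
    intro g hg
    let Wg : P.Opens := W0 ⊓ (act hf q g) ⁻¹ᵁ W0
    let a : Wg.toScheme ⟶ W0.toScheme := IsOpenImmersion.lift W0.ι Wg.ι (by
      rw [Scheme.Opens.range_ι, Scheme.Opens.range_ι]; exact fun z hz => hz.1)
    have ha : a ≫ W0.ι = Wg.ι := IsOpenImmersion.lift_fac _ _ _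
    let a' : Wg.toScheme ⟶ W0.toScheme := IsOpenImmersion.lift W0.ι (Wg.ι ≫ act hf q g) (by
      rw [Scheme.Opens.range_ι]
      rintro _ ⟨z, rfl⟩
      exact z.2.2)
    have ha' : a' ≫ W0.ι = Wg.ι ≫ act hf q g := IsOpenImmersion.lift_fac _ _ _
    let Wgo : Over S := Over.mk (Wg.ι ≫ pXP ≫ X.hom)
    let ao : Wgo ⟶ W0o := Over.homMk a (by
      show a ≫ W0.ι ≫ pXP ≫ X.hom = _
      rw [reassoc_of% ha]; rfl)
    let ao' : Wgo ⟶ W0o := Over.homMk a' (by
      show a' ≫ W0.ι ≫ pXP ≫ X.hom = Wg.ι ≫ pXP ≫ X.hom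
      rw [reassoc_of% ha', act_snd_assoc, Over.w (σ g)])
    have hcX : ao' ≫ cX = ao ≫ cX ≫ σ g := Over.OverMorphism.ext (by
      show a' ≫ W0.ι ≫ pXP = a ≫ (W0.ι ≫ pXP) ≫ (σ g).left
      rw [reassoc_of% ha', act_snd, Category.assoc, reassoc_of% ha])
    have hw : (yon S).map (ao' ≫ u₀) ≫ p = (yon S).map (ao ≫ cX) ≫ h := by
      rw [Functor.map_comp, Category.assoc, hu₀, yon_cancel hcX, Functor.map_comp, Functor.map_comp,
        Category.assoc, Category.assoc, hh, Functor.map_comp, Category.assoc]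
    obtain ⟨a₂, ha₂⟩ := (yon S).map_surjective (sqV.lift _ _ hw)
    have e1 : a₂ ≫ qV = ao' ≫ u₀ := (yon S).map_injective (by rw [Functor.map_comp, ha₂, sqV.lift_fst])
    have e2 : a₂ ≫ pV = ao ≫ cX := (yon S).map_injective (by rw [Functor.map_comp, ha₂, sqV.lift_snd])
    let xg : Spec (CommRingCat.of Ω) ⟶ Wg.toScheme := IsOpenImmersion.lift Wg.ι x (by
      rintro _ ⟨z, rfl⟩
      rw [Scheme.Opens.range_ι, Subsingleton.elim z c₀]
      refine ⟨hxW0, ?_⟩
      show act hf q g (x c₀) ∈ W0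
      rw [← Scheme.Hom.comp_apply, hg]
      exact hxW0)
    have hxg : xg ≫ Wg.ι = x := IsOpenImmersion.lift_fac _ _ _
    have hxa : xg ≫ a' = xg ≫ a := by
      rw [← cancel_mono W0.ι, Category.assoc, Category.assoc, ha', ha, reassoc_of% hxg, hxg, hg]
    let xo : Over.mk (x ≫ pXP ≫ X.hom) ⟶ Wgo := Over.homMk xg (by
      show xg ≫ Wg.ι ≫ pXP ≫ X.hom = _
      rw [reassoc_of% hxg]; rfl)
    have hxx : xo ≫ a₂ = xo ≫ ao ≫ vV := by
      apply (yon S).map_injective
      refine sqV.hom_ext ?_ ?_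
      · rw [← Functor.map_comp, ← Functor.map_comp]
        congr 1
        rw [Category.assoc, e1, Category.assoc, Category.assoc]
        exact Over.OverMorphism.ext (show xg ≫ a' ≫ u₀.left = xg ≫ a ≫ u₀.left by rw [reassoc_of% hxa])
      · rw [← Functor.map_comp, ← Functor.map_comp]
        congr 1
        rw [Category.assoc, e2, Category.assoc, Category.assoc, hvV]
    obtain ⟨E, hxE, hEb⟩ := exists_agree pV.left a₂.left (a ≫ vW)
      ((congrArg CommaMorphism.left e2).trans (by rw [Category.assoc, hvW]; rfl)) xg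
      (congrArg CommaMorphism.left hxx)
    refine ⟨Wg.ι ''ᵁ E, ⟨xg c₀, hxE, by
      show Wg.ι (xg c₀) = x c₀
      rw [← Scheme.Hom.comp_apply, hxg]⟩, fun {Z} b b' hb hbb' => ?_⟩
    let c : Z ⟶ Wg.toScheme := IsOpenImmersion.lift Wg.ι (b ≫ W0.ι) (by
      rintro _ ⟨z, rfl⟩
      obtain ⟨w, -, hw⟩ := hb z
      exact ⟨w, hw⟩)
    have hc : c ≫ Wg.ι = b ≫ W0.ι := IsOpenImmersion.lift_fac _ _ _
    have hb1 : b = c ≫ a := by rw [← cancel_mono W0.ι, Category.assoc, ha, hc]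
    have hb2 : b' = c ≫ a' := by rw [← cancel_mono W0.ι, Category.assoc, ha', reassoc_of% hc, hbb']
    have h3 := hEb c (fun z => by
      obtain ⟨w, hw, hw'⟩ := hb z
      have : c z = w := Wg.ι.injective (by rw [← Scheme.Hom.comp_apply, hc]; exact hw'.symm)
      exact (congrArg (· ∈ E) this).mpr hw)
    rw [hb1, hb2, Category.assoc, Category.assoc]
    show c ≫ a ≫ vW ≫ qV.left = c ≫ a' ≫ u₀.left
    rw [show a' ≫ u₀.left = a₂.left ≫ qV.left from (congrArg CommaMorphism.left e1).symm]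
    have h4 : c ≫ a₂.left = c ≫ a ≫ vW := h3
    rw [reassoc_of% h4]
  choose E hxE hEH using hE
  obtain ⟨U₀, hU₀, hxU₀, -⟩ := exists_isAffineOpen_mem_and_subset (U := (⊤ : U.left.Opens))
    (x := u₀.left ⟨x c₀, hxW0⟩) trivial
  -- the good locus
  let W1 : Set P := (W0.ι ''ᵁ (u₀.left ⁻¹ᵁ U₀) : Set P) ∩ ⋂ g : Hs, (E g.1 g.2 : Set P)
  have hW1o : IsOpen W1 := (W0.ι ''ᵁ (u₀.left ⁻¹ᵁ U₀)).2.inter (isOpen_iInter_of_finite fun g => (E g.1 g.2).2)
  have hxW1 : x c₀ ∈ W1 := ⟨⟨⟨x c₀, hxW0⟩, hxU₀, rfl⟩, Set.mem_iInter.2 fun g => hxE g.1 g.2⟩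
  have horbP : ∀ x' : Spec (CommRingCat.of Ω) ⟶ P, x' ≫ pr = t → ∃ g, x' ≫ act hf q g = x := by
    intro x' hx'
    obtain ⟨g, hg⟩ := hf.orbit Ω (x' ≫ pXP) (x ≫ pXP) (by
      rw [Category.assoc, Category.assoc, ← pullback.condition, reassoc_of% hx', pullback.lift_fst_assoc])
    refine ⟨g, pullback.hom_ext ?_ ?_⟩
    · rw [Category.assoc, act_fst, hx', pullback.lift_fst]
    · rw [Category.assoc, act_snd, ← Category.assoc, hg]
  obtain ⟨T1, hT1, htT1, hT1good⟩ := exists_split_nhd pr (act hf q) (act_fst hf q) (act_act_inv hf q) t x O hOc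
    hxO hOuniq horbP W1 hW1o hxW1
  -- restrict
  let q1 : T1.toScheme ⟶ Y.left := T1.ι ≫ q
  have : Etale q1 := inferInstance
  let m : pullback q1 f.left ⟶ P := pullback.map q1 f.left q f.left T1.ι (𝟙 _) (𝟙 _) (by simp [q1]) (by simp)
  have hm_pr : m ≫ pr = pullback.fst q1 f.left ≫ T1.ι := pullback.lift_fst _ _ _
  have hm_X : m ≫ pXP = pullback.snd q1 f.left := (pullback.lift_snd _ _ _).trans (Category.comp_id _)
  have hm_act : ∀ g, act hf q1 g ≫ m = m ≫ act hf q g := fun g => by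
    apply pullback.hom_ext
    · rw [Category.assoc, Category.assoc, act_fst, hm_pr, act_fst_assoc]
    · rw [Category.assoc, Category.assoc, act_snd, hm_X, act_snd, reassoc_of% hm_X]
  have hmact : ∀ g z, m (act hf q1 g z) = act hf q g (m z) := fun g z => by
    rw [← Scheme.Hom.comp_apply, hm_act, Scheme.Hom.comp_apply]
  have hgood := fun z => hT1good (m z) (by
    rw [← Scheme.Hom.comp_apply, hm_pr, Scheme.Hom.comp_apply]
    exact (pullback.fst q1 f.left z).2)
  let O1 : (pullback q1 f.left).Opens := m ⁻¹ᵁ O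
  have hO1 : ∀ z ∈ O1, m z ∈ W1 := fun z hz => (hgood z).1 hz
  let l1 : O1.toScheme ⟶ W0.toScheme := IsOpenImmersion.lift W0.ι (O1.ι ≫ m) (by
    rw [Scheme.Opens.range_ι]
    rintro _ ⟨z, rfl⟩
    obtain ⟨w, -, hw⟩ := (hO1 _ z.2).1
    show m z.1 ∈ W0
    rw [← hw]; exact w.2)
  have hl1 : l1 ≫ W0.ι = O1.ι ≫ m := IsOpenImmersion.lift_fac _ _ _
  let lo : Over.mk (O1.ι ≫ pullback.snd q1 f.left ≫ X.hom) ⟶ W0o := Over.homMk l1 (by
    show l1 ≫ W0.ι ≫ pXP ≫ X.hom = O1.ι ≫ pullback.snd q1 f.left ≫ X.hom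
    rw [reassoc_of% hl1, reassoc_of% hm_X])
  refine ⟨T1.toScheme, q1, hT1, inferInstance, ⟨⟨t c₀, htT1⟩, ?_⟩, O1, Hs, lo ≫ u₀, ?_, ?_, ?_, fun z => ?_,
    U₀, hU₀, fun z => ?_⟩
  · show q (t c₀) = y
    rw [← Scheme.Hom.comp_apply, ht, Scheme.Hom.comp_apply, Scheme.Hom.comp_apply]
    rw [hsv]
    show f.left (pX ⟨v, hvV₀⟩) = y
    rw [show pX ⟨v, hvV₀⟩ = pV.left v from Scheme.Hom.comp_apply _ _ _, hv, hx₀]
  · rw [Functor.map_comp, Category.assoc, hu₀, yon_cancel (c := Over.homMk _ (Category.assoc _ _ _))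
      (Over.OverMorphism.ext (show l1 ≫ W0.ι ≫ pXP = O1.ι ≫ pullback.snd q1 f.left by
        rw [reassoc_of% hl1, hm_X]))]
  · intro k hk Z b b' hbb'
    show b ≫ l1 ≫ u₀.left = b' ≫ l1 ≫ u₀.left
    rw [← Category.assoc, ← Category.assoc]
    refine hEH k hk (b ≫ l1) (b' ≫ l1) (fun z => ?_) ?_
    · rw [Category.assoc, hl1, Scheme.Hom.comp_apply, Scheme.Hom.comp_apply]
      exact Set.mem_iInter.1 (hO1 _ (b z).2).2 ⟨k, hk⟩
    · rw [Category.assoc, Category.assoc, hl1, reassoc_of% hl1, reassoc_of% hbb', hm_act]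
  · intro k hk z hz hc
    refine (hgood z).2.2.1 k hk ⟨hz, ?_⟩
    rw [← hmact]; exact hc
  · obtain ⟨g, hg⟩ := (hgood z).2.2.2
    exact ⟨g, show m (act hf q1 g z) ∈ O by rw [hmact]; exact hg⟩
  · obtain ⟨w, hw1, hw2⟩ := (hO1 _ z.2).1
    show u₀.left (l1 z) ∈ U₀
    have : l1 z = w := W0.ι.injective (by rw [← Scheme.Hom.comp_apply, hl1]; exact hw2.symm)
    exact (congrArg (fun e => u₀.left e ∈ U₀) this).mpr hw1

/-- An invariant lift to the atlas on an étale base change, with image in an affine open. -/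
theorem exists_invLift [Finite G] {f : X ⟶ Y} {σ : G → (X ⟶ X)} (hf : IsFinQuot f σ) {N : Sp S}
    (h : (yon S).obj X ⟶ N) (hh : ∀ g, (yon S).map (σ g) ≫ h = h) {U : Over S} (p : (yon S).obj U ⟶ N)
    (hp : RepWith @Etale p) (hps : RepWith @Surjective p) (y : Y.left) :
    ∃ (T : Scheme.{u}) (q : T ⟶ Y.left), IsAffine T ∧ Etale q ∧ y ∈ Set.range q ∧
      ∃ s : Over.mk (pullback.snd q f.left ≫ X.hom) ⟶ U,
        (yon S).map s ≫ p = (yon S).map (Over.homMk (pullback.snd q f.left) rfl :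
          Over.mk (pullback.snd q f.left ≫ X.hom) ⟶ X) ≫ h ∧
        (∀ k, act hf q k ≫ s.left = s.left) ∧
        ∃ U₀ : U.left.Opens, IsAffineOpen U₀ ∧ ∀ z, s.left z ∈ U₀ := by
  obtain ⟨T, q, hT, hq, hy, O, Hs, u₁, hu₁, hu, hdisj, hcov, U₀, hU₀, hmem⟩ := exists_piece hf h hh p hp hps y
  obtain ⟨s, hsinv, hs⟩ := exists_glue (act hf q) (act_mul hf q) O Hs u₁.left hu hdisj hcov
  let Q : G → (pullback q f.left).Opens := fun g => act hf q g ⁻¹ᵁ O
  have hQ : ∀ z, ∃ g, z ∈ Q g := hcov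
  have hover : s ≫ U.hom = pullback.snd q f.left ≫ X.hom := by
    refine Scheme.Cover.hom_ext ((pullback q f.left).openCoverOfIsOpenCover Q
      (TopologicalSpace.IsOpenCover.mk (top_unique fun z _ => TopologicalSpace.Opens.mem_iSup.2 (hQ z)))) _ _
      fun (g : G) => ?_
    show (Q g).ι ≫ s ≫ U.hom = (Q g).ι ≫ pullback.snd q f.left ≫ X.hom
    rw [reassoc_of% hs g, Over.w u₁]
    show act hf q g ∣_ O ≫ O.ι ≫ pullback.snd q f.left ≫ X.hom = _
    rw [← Category.assoc (act hf q g ∣_ O), morphismRestrict_ι, Category.assoc, act_snd_assoc, Over.w (σ g)]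
  refine ⟨T, q, hT, hq, hy, Over.homMk s hover, ?_, hsinv, U₀, hU₀, fun z => ?_⟩
  · refine hom_ext_of_cover (fun g => Over.mk ((Q g).ι ≫ pullback.snd q f.left ≫ X.hom))
      (fun g => (Over.homMk (Q g).ι rfl : Over.mk ((Q g).ι ≫ pullback.snd q f.left ≫ X.hom) ⟶ Over.mk (pullback.snd q f.left ≫ X.hom)))
      (fun g => inferInstanceAs (IsOpenImmersion (Q g).ι)) (fun z => ?_) _ _ fun g => ?_
    · obtain ⟨g, hg⟩ := hQ z
      exact ⟨g, ⟨z, hg⟩, rfl⟩
    let vg : Over.mk ((Q g).ι ≫ pullback.snd q f.left ≫ X.hom) ⟶ Over.mk (O.ι ≫ pullback.snd q f.left ≫ X.hom) :=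
      Over.homMk (act hf q g ∣_ O) (by
        show act hf q g ∣_ O ≫ O.ι ≫ pullback.snd q f.left ≫ X.hom = _
        rw [← Category.assoc, morphismRestrict_ι, Category.assoc, act_snd_assoc, Over.w (σ g)]
        rfl)
    rw [yon_cancel (c := vg ≫ u₁) (Over.OverMorphism.ext (hs g)), Functor.map_comp, Category.assoc, hu₁,
      yon_cancel (c := (Over.homMk ((Q g).ι ≫ pullback.snd q f.left) (Category.assoc _ _ _) :
        Over.mk ((Q g).ι ≫ pullback.snd q f.left ≫ X.hom) ⟶ X) ≫ σ g) (Over.OverMorphism.ext (by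
          show act hf q g ∣_ O ≫ O.ι ≫ pullback.snd q f.left = ((Q g).ι ≫ pullback.snd q f.left) ≫ (σ g).left
          rw [← Category.assoc, morphismRestrict_ι, Category.assoc, act_snd, Category.assoc])),
      Functor.map_comp, Category.assoc, hh]
    refine (yon_cancel (c := (Over.homMk ((Q g).ι ≫ pullback.snd q f.left) (Category.assoc _ _ _) :
        Over.mk ((Q g).ι ≫ pullback.snd q f.left ≫ X.hom) ⟶ X)) ?_ h).symm
    exact Over.OverMorphism.ext rfl
  · obtain ⟨g, hg⟩ := hQ z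
    show s z ∈ U₀
    have hw := Scheme.Hom.comp_apply (Q g).ι s ⟨z, hg⟩
    rw [hs g] at hw
    rw [show z = (Q g).ι ⟨z, hg⟩ from rfl, ← hw]
    exact hmem _

/-- Invariant maps to algebraic spaces descend étale locally on the quotient. -/
theorem exists_lift [Finite G] {f : X ⟶ Y} {σ : G → (X ⟶ X)} (hf : IsFinQuot f σ) {N : Sp S} (hN : IsAlgSpace N)
    (h : (yon S).obj X ⟶ N) (hh : ∀ g, (yon S).map (σ g) ≫ h = h) (y : Y.left) :
    ∃ (T : Over S) (_ : IsAffine T.left) (q : T ⟶ Y) (_ : Etale q.left), y ∈ Set.range q.left ∧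
      ∃ k : (yon S).obj T ⟶ N, ∀ (W : Over S) (a : W ⟶ T) (c : W ⟶ X), a ≫ q = c ≫ f →
        (yon S).map a ≫ k = (yon S).map c ≫ h := by
  obtain ⟨U, p, hp, hps⟩ := hN.atlas
  obtain ⟨T, q, hT, hq, hy, s, hsp, hsinv, U₀, hU₀, hs0⟩ := exists_invLift hf h hh p hp hps y
  have := hf.affX
  have := hf.affY
  have := hf.finite
  have : IsAffine U₀.toScheme := hU₀
  let s₀ : pullback q f.left ⟶ U₀.toScheme := IsOpenImmersion.lift U₀.ι s.left (by
    rw [Scheme.Opens.range_ι]; rintro _ ⟨z, rfl⟩; exact hs0 z)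
  have hs₀ : s₀ ≫ U₀.ι = s.left := IsOpenImmersion.lift_fac _ _ _
  choose d₀ hd₀ using fun r => hf.desc T q (s₀.appTop r) (fun g σ' h1 h2 => by
    have e : σ' = act hf q g := by
      apply pullback.hom_ext
      · rw [h1, act_fst]
      · rw [h2, act_snd]
    have e2 : act hf q g ≫ s₀ = s₀ := by rw [← cancel_mono U₀.ι, Category.assoc, hs₀, hsinv]
    rw [e, ← CommRingCat.comp_apply, ← Scheme.Hom.comp_appTop, e2])
  have hinj := hf.inj T q
  let φ : Γ(U₀.toScheme, ⊤) ⟶ Γ(T, ⊤) := CommRingCat.ofHom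
    { toFun := d₀
      map_one' := hinj (by rw [hd₀, map_one, map_one])
      map_mul' := fun a b => hinj (by rw [hd₀, map_mul, map_mul, hd₀, hd₀])
      map_zero' := hinj (by rw [hd₀, map_zero, map_zero])
      map_add' := fun a b => hinj (by rw [hd₀, map_add, map_add, hd₀, hd₀]) }
  let d : T ⟶ U₀.toScheme := T.isoSpec.hom ≫ Spec.map φ ≫ U₀.toScheme.isoSpec.inv
  have hd : pullback.fst q f.left ≫ d = s₀ := by
    have : d.appTop = φ := by
      apply Spec.map_injective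
      rw [← cancel_epi T.isoSpec.hom, Scheme.isoSpec_hom_naturality]
      simp [d]
    refine ext_of_isAffine ?_
    rw [Scheme.Hom.comp_appTop, this]
    ext r
    exact hd₀ r
  let To : Over S := Over.mk (q ≫ Y.hom)
  let qo : To ⟶ Y := Over.homMk q rfl
  have hP : pullback.fst q f.left ≫ To.hom = pullback.snd q f.left ≫ X.hom := by
    show pullback.fst q f.left ≫ q ≫ Y.hom = _
    rw [pullback.condition_assoc, Over.w f]
  have : IsFinite (pullback.fst q f.left) := inferInstance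
  let dU : To ⟶ U := Over.homMk (d ≫ U₀.ι) (by
    refine eq_of_comp_eq_sch (pullback.fst q f.left) hinj _ _ ?_
    rw [Category.assoc, reassoc_of% hd, reassoc_of% hs₀, hP]
    exact Over.w s)
  refine ⟨To, hT, qo, hq, hy, (yon S).map dU ≫ p, ?_⟩
  intro W' a c hac
  let l : W' ⟶ Over.mk (pullback.snd q f.left ≫ X.hom) :=
    Over.homMk (pullback.lift a.left c.left (congrArg CommaMorphism.left hac)) (by
      show _ ≫ pullback.snd q f.left ≫ X.hom = W'.hom
      rw [pullback.lift_snd_assoc, Over.w c])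
  have hl₁ : a ≫ dU = l ≫ s := Over.OverMorphism.ext (by
    show a.left ≫ d ≫ U₀.ι = pullback.lift a.left c.left _ ≫ s.left
    rw [← hs₀, ← hd, Category.assoc (pullback.fst q f.left) d U₀.ι, pullback.lift_fst_assoc])
  rw [yon_cancel hl₁, Functor.map_comp, Category.assoc, hsp,
    yon_cancel (c := c) (Over.OverMorphism.ext (pullback.lift_snd _ _ _))]

end Groth.Agent.FinQuotSp10
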